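import Mathlib

/-!
# Tables for the minimum of the Conway-Wales lattice

Machine-generated.
-/

set_option autoImplicit false
set_option maxRecDepth 100000

namespace CfsgLib.KnownC.RuLattice

/-- A basis of the real coordinates. -/
def basis : List (List ℤ) := [
  [1, 0, 0, 0, 0, 0, 0, 0, 0, 0, 0, 0, 0, 0, 1, 0, 0, 0, 0, 0, 0, 1, 0, 0, 0, 0, 0, -1, 0, 0, 0, -1, 0, 1, 0, -1, 1, 1, 1, 1, 0, 1, 0, 2, 1, -1, 0, 0, 1, 0, 0, 2, 0, 1, 0, 0],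
  [0, 1, 0, 0, 0, 0, 0, 0, 0, 0, 0, 0, 0, 1, 0, 1, 0, 0, 0, 0, 0, 0, 1, 0, 0, 0, 1, -1, 0, 0, 0, -1, 0, 1, 1, 2, 0, 1, 0, -1, 1, 0, 1, 2, -1, 0, 2, 1, 0, 0, 2, 1, 2, 2, 2, 2],
  [0, 0, 1, 0, 0, 0, 0, 0, 0, 0, 0, 0, 0, 0, 0, 1, 0, 0, 0, 0, 0, 1, 0, 1, 0, 1, 1, 2, 0, 0, 0, -1, 0, 0, 1, 1, 1, 0, 1, 2, 1, 0, 0, 2, 2, -1, 0, -1, -1, 0, 1, 2, 1, -1, -1, -1],
  [0, 0, 0, 1, 0, 0, 0, 0, 0, 0, 0, 0, 0, 1, 1, 0, 0, 0, 0, 0, 0, 0, 1, 1, 0, 1, 0, 2, 0, 0, 0, -1, 1, 0, 0, -1, 1, 1, 0, 0, 0, 1, 0, 1, 1, 2, -1, 2, 0, 1, 2, 1, -1, 1, -1, 2],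
  [0, 0, 0, 0, 1, 0, 0, 0, 0, 0, 0, 0, 0, 1, 1, 0, 0, 0, 1, 0, 0, 0, 1, 1, 0, 2, 0, 2, 0, 0, 0, 0, 0, 1, 1, 1, 0, 0, 0, 2, 0, 1, 1, 0, 1, 1, 2, -1, 0, 0, -1, 1, 2, 0, 2, 0],
  [0, 0, 0, 0, 0, 1, 0, 0, 0, 0, 0, 0, 0, 1, 1, 1, 0, 1, 0, 1, 0, 1, 1, 0, 0, 2, 2, 2, 0, 0, 0, 0, 1, 0, 1, -1, 0, 0, 0, 2, 1, 0, 0, 0, 2, -1, 0, -1, 2, -1, 1, 0, 2, 0, 0, 2],
  [0, 0, 0, 0, 0, 0, 1, 0, 0, 0, 0, 0, 0, 1, 0, 0, 0, 0, 0, 1, 0, 1, 1, 1, 0, 0, 0, 0, 0, 0, 0, 2, 1, 1, 0, -1, 0, 0, 0, 2, 1, 0, 1, -1, -1, -1, 1, 2, 1, 2, 0, 2, 2, 2, 2, 0],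
  [0, 0, 0, 0, 0, 0, 0, 1, 0, 0, 0, 0, 0, 1, 0, 1, 0, 1, 1, 0, 0, 0, 1, 0, 0, 2, 0, 2, 0, 0, 0, 0, 1, 1, 1, 0, 0, 0, 0, 0, 0, 1, 0, 1, 2, -1, -1, 0, -1, 1, 0, -1, 2, 2, 0, 2],
  [0, 0, 0, 0, 0, 0, 0, 0, 1, 0, 0, 0, 0, 0, 0, 0, 0, 1, 1, 0, 0, 0, 1, 0, 0, 2, -1, -1, 0, 0, 0, 0, 0, 0, 0, 0, 0, 1, 1, 1, 0, 0, 0, 2, 2, 1, -1, 0, 1, -1, 0, -1, 2, 0, -1, 1],
  [0, 0, 0, 0, 0, 0, 0, 0, 0, 1, 0, 0, 0, 0, 0, 0, 0, 1, 1, 1, 0, 1, 0, 1, 0, 1, 1, 2, 0, 0, 0, 2, 0, 0, 0, 0, 1, 0, 1, -1, 0, 0, 0, 2, 1, 0, 0, 0, 2, -1, 0, -1, 0, 1, -1, 0],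
  [0, 0, 0, 0, 0, 0, 0, 0, 0, 0, 1, 0, 0, 0, 0, 0, 0, 1, 0, 0, 0, 0, 0, 1, 0, 1, 1, 1, 0, 0, 0, 2, 0, 0, 0, 2, 1, 1, 0, -1, 0, 0, 0, 2, -1, 0, -1, -1, -1, 1, -1, 2, 1, 2, 0, 2],
  [0, 0, 0, 0, 0, 0, 0, 0, 0, 0, 0, 1, 0, 0, 0, 0, 0, 1, 0, 1, 0, 1, 1, 0, 0, 2, -1, 2, 0, 0, 0, 2, 0, 0, 0, 0, 1, 1, 1, 0, 0, 0, 0, 0, 0, -1, 2, 1, 2, 1, -1, 2, 1, 1, 0, -1],
  [0, 0, 0, 0, 0, 0, 0, 0, 0, 0, 0, 0, 1, 1, 1, 1, 0, 0, 0, 0, 0, 0, 0, 0, 0, 0, 0, 0, 0, 0, 0, 2, 0, 0, 0, 2, 0, 0, 0, 2, 1, 1, 1, 1, 2, 2, 2, 0, 2, 2, 2, 0, 2, 0, 0, 0],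
  [0, 0, 0, 0, 0, 0, 0, 0, 0, 0, 0, 0, 0, 2, 0, 0, 0, 0, 0, 0, 0, 0, 0, 0, 0, 2, 0, 2, 0, 0, 0, 0, 0, 0, 0, 0, 0, 0, 0, 0, 0, 0, 0, 2, 0, 2, 2, 0, 0, 0, 0, 0, 2, 0, 2, 0],
  [0, 0, 0, 0, 0, 0, 0, 0, 0, 0, 0, 0, 0, 0, 2, 0, 0, 0, 0, 0, 0, 0, 0, 0, 0, 0, 0, 2, 0, 0, 0, 0, 0, 0, 0, 0, 0, 0, 0, 0, 0, 0, 0, 2, 0, 0, 2, 2, 0, 0, 0, 0, 2, 0, 0, 0],
  [0, 0, 0, 0, 0, 0, 0, 0, 0, 0, 0, 0, 0, 0, 0, 2, 0, 0, 0, 0, 0, 0, 0, 0, 0, 2, 2, 0, 0, 0, 0, 0, 0, 0, 0, 0, 0, 0, 0, 0, 0, 0, 0, 2, 2, 0, 0, 2, 0, 0, 0, 0, 0, 2, 0, 2],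
  [0, 0, 0, 0, 0, 0, 0, 0, 0, 0, 0, 0, 0, 0, 0, 0, 1, 1, 1, 1, 0, 0, 0, 0, 0, 0, 0, 0, 0, 0, 0, 2, 0, 0, 0, 2, 0, 0, 0, 2, 0, 0, 0, 2, 1, -1, -1, 1, 2, 0, 2, 2, 2, 2, 2, 0],
  [0, 0, 0, 0, 0, 0, 0, 0, 0, 0, 0, 0, 0, 0, 0, 0, 0, 2, 0, 0, 0, 0, 0, 0, 0, 2, 2, 2, 0, 0, 0, 0, 0, 0, 0, 0, 0, 0, 0, 0, 0, 0, 0, 0, 2, 0, 2, 2, 0, 0, 0, 0, 2, 0, 0, 0],
  [0, 0, 0, 0, 0, 0, 0, 0, 0, 0, 0, 0, 0, 0, 0, 0, 0, 0, 2, 0, 0, 0, 0, 0, 0, 2, 0, 0, 0, 0, 0, 0, 0, 0, 0, 0, 0, 0, 0, 0, 0, 0, 0, 0, 2, 2, 0, 2, 0, 0, 0, 0, 2, 0, 2, 2],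
  [0, 0, 0, 0, 0, 0, 0, 0, 0, 0, 0, 0, 0, 0, 0, 0, 0, 0, 0, 2, 0, 0, 0, 0, 0, 2, 0, 2, 0, 0, 0, 0, 0, 0, 0, 0, 0, 0, 0, 0, 0, 0, 0, 0, 2, 2, 2, 0, 0, 0, 0, 0, 0, 2, 0, 2],
  [0, 0, 0, 0, 0, 0, 0, 0, 0, 0, 0, 0, 0, 0, 0, 0, 0, 0, 0, 0, 1, 1, 1, 1, 0, 0, 0, 0, 0, 0, 0, 2, 0, 0, 0, 2, 0, 0, 0, 2, 0, 0, 0, 2, 2, 0, 2, 2, 1, 1, 1, 1, 2, 0, 2, 2],
  [0, 0, 0, 0, 0, 0, 0, 0, 0, 0, 0, 0, 0, 0, 0, 0, 0, 0, 0, 0, 0, 2, 0, 0, 0, 0, 0, 2, 0, 0, 0, 0, 0, 0, 0, 0, 0, 0, 0, 0, 0, 0, 0, 0, 0, 0, 0, 0, 2, 0, 2, 2, 2, 2, 2, 0],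
  [0, 0, 0, 0, 0, 0, 0, 0, 0, 0, 0, 0, 0, 0, 0, 0, 0, 0, 0, 0, 0, 0, 2, 0, 0, 0, 2, 2, 0, 0, 0, 0, 0, 0, 0, 0, 0, 0, 0, 0, 0, 0, 0, 0, 0, 0, 0, 0, 2, 2, 0, 2, 0, 0, 2, 2],
  [0, 0, 0, 0, 0, 0, 0, 0, 0, 0, 0, 0, 0, 0, 0, 0, 0, 0, 0, 0, 0, 0, 0, 2, 0, 2, 2, 2, 0, 0, 0, 0, 0, 0, 0, 0, 0, 0, 0, 0, 0, 0, 0, 0, 0, 0, 0, 0, 2, 2, 2, 0, 2, 0, 0, 0],
  [0, 0, 0, 0, 0, 0, 0, 0, 0, 0, 0, 0, 0, 0, 0, 0, 0, 0, 0, 0, 0, 0, 0, 0, 1, 1, 1, 1, 0, 0, 0, 2, 0, 0, 0, 2, 0, 0, 0, 2, 0, 0, 0, 2, 2, 0, 0, 0, 0, 2, 2, 2, 1, 1, 1, 1],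
  [0, 0, 0, 0, 0, 0, 0, 0, 0, 0, 0, 0, 0, 0, 0, 0, 0, 0, 0, 0, 0, 0, 0, 0, 0, 4, 0, 0, 0, 0, 0, 0, 0, 0, 0, 0, 0, 0, 0, 0, 0, 0, 0, 0, 0, 0, 0, 0, 0, 0, 0, 0, 0, 0, 0, 0],
  [0, 0, 0, 0, 0, 0, 0, 0, 0, 0, 0, 0, 0, 0, 0, 0, 0, 0, 0, 0, 0, 0, 0, 0, 0, 0, 4, 0, 0, 0, 0, 0, 0, 0, 0, 0, 0, 0, 0, 0, 0, 0, 0, 0, 0, 0, 0, 0, 0, 0, 0, 0, 0, 0, 0, 0],
  [0, 0, 0, 0, 0, 0, 0, 0, 0, 0, 0, 0, 0, 0, 0, 0, 0, 0, 0, 0, 0, 0, 0, 0, 0, 0, 0, 4, 0, 0, 0, 0, 0, 0, 0, 0, 0, 0, 0, 0, 0, 0, 0, 0, 0, 0, 0, 0, 0, 0, 0, 0, 0, 0, 0, 0],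
  [0, 0, 0, 0, 0, 0, 0, 0, 0, 0, 0, 0, 0, 0, 0, 0, 0, 0, 0, 0, 0, 0, 0, 0, 0, 0, 0, 0, 1, 0, 0, -1, 1, 1, 0, 2, 0, 0, 1, -1, 1, 0, 1, 2, 2, 1, 1, 0, 0, -1, 2, -1, 1, 1, 1, 1],
  [0, 0, 0, 0, 0, 0, 0, 0, 0, 0, 0, 0, 0, 0, 0, 0, 0, 0, 0, 0, 0, 0, 0, 0, 0, 0, 0, 0, 0, 1, 0, -1, 1, 1, 1, 1, 1, 0, 0, -1, 1, 1, 0, 2, 2, 2, 1, -1, 1, 0, -1, 0, 2, 1, 1, 0],
  [0, 0, 0, 0, 0, 0, 0, 0, 0, 0, 0, 0, 0, 0, 0, 0, 0, 0, 0, 0, 0, 0, 0, 0, 0, 0, 0, 0, 0, 0, 1, -1, 1, 0, 1, 2, 0, 1, 1, 2, 0, 1, 0, -1, 1, -1, -1, 1, -1, 0, 2, -1, -1, -1, 2, 0],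
  [0, 0, 0, 0, 0, 0, 0, 0, 0, 0, 0, 0, 0, 0, 0, 0, 0, 0, 0, 0, 0, 0, 0, 0, 0, 0, 0, 0, 0, 0, 0, 4, 0, 0, 0, 0, 0, 0, 0, 0, 0, 0, 0, 0, 0, 0, 0, 0, 0, 0, 0, 0, 0, 0, 0, 0],
  [0, 0, 0, 0, 0, 0, 0, 0, 0, 0, 0, 0, 0, 0, 0, 0, 0, 0, 0, 0, 0, 0, 0, 0, 0, 0, 0, 0, 0, 0, 0, 0, 2, 0, 0, 2, 0, 0, 0, 0, 0, 0, 0, 0, 0, 0, 0, 0, 0, 2, 2, 0, 0, 2, 0, 2],
  [0, 0, 0, 0, 0, 0, 0, 0, 0, 0, 0, 0, 0, 0, 0, 0, 0, 0, 0, 0, 0, 0, 0, 0, 0, 0, 0, 0, 0, 0, 0, 0, 0, 2, 0, 2, 0, 0, 0, 0, 0, 0, 0, 0, 0, 0, 0, 0, 0, 0, 2, 2, 2, 0, 2, 0],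
  [0, 0, 0, 0, 0, 0, 0, 0, 0, 0, 0, 0, 0, 0, 0, 0, 0, 0, 0, 0, 0, 0, 0, 0, 0, 0, 0, 0, 0, 0, 0, 0, 0, 0, 2, 2, 0, 0, 0, 0, 0, 0, 0, 0, 0, 0, 0, 0, 2, 2, 2, 2, 2, 0, 0, 2],
  [0, 0, 0, 0, 0, 0, 0, 0, 0, 0, 0, 0, 0, 0, 0, 0, 0, 0, 0, 0, 0, 0, 0, 0, 0, 0, 0, 0, 0, 0, 0, 0, 0, 0, 0, 4, 0, 0, 0, 0, 0, 0, 0, 0, 0, 0, 0, 0, 0, 0, 0, 0, 0, 0, 0, 0],
  [0, 0, 0, 0, 0, 0, 0, 0, 0, 0, 0, 0, 0, 0, 0, 0, 0, 0, 0, 0, 0, 0, 0, 0, 0, 0, 0, 0, 0, 0, 0, 0, 0, 0, 0, 0, 2, 0, 0, 2, 0, 0, 0, 0, 0, 0, 2, 2, 2, 0, 2, 0, 0, 2, 2, 0],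
  [0, 0, 0, 0, 0, 0, 0, 0, 0, 0, 0, 0, 0, 0, 0, 0, 0, 0, 0, 0, 0, 0, 0, 0, 0, 0, 0, 0, 0, 0, 0, 0, 0, 0, 0, 0, 0, 2, 0, 2, 0, 0, 0, 0, 2, 0, 0, 2, 2, 2, 0, 0, 0, 0, 2, 2],
  [0, 0, 0, 0, 0, 0, 0, 0, 0, 0, 0, 0, 0, 0, 0, 0, 0, 0, 0, 0, 0, 0, 0, 0, 0, 0, 0, 0, 0, 0, 0, 0, 0, 0, 0, 0, 0, 0, 2, 2, 0, 0, 0, 0, 0, 2, 2, 0, 0, 2, 0, 2, 2, 2, 2, 2],
  [0, 0, 0, 0, 0, 0, 0, 0, 0, 0, 0, 0, 0, 0, 0, 0, 0, 0, 0, 0, 0, 0, 0, 0, 0, 0, 0, 0, 0, 0, 0, 0, 0, 0, 0, 0, 0, 0, 0, 4, 0, 0, 0, 0, 0, 0, 0, 0, 0, 0, 0, 0, 0, 0, 0, 0],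
  [0, 0, 0, 0, 0, 0, 0, 0, 0, 0, 0, 0, 0, 0, 0, 0, 0, 0, 0, 0, 0, 0, 0, 0, 0, 0, 0, 0, 0, 0, 0, 0, 0, 0, 0, 0, 0, 0, 0, 0, 2, 0, 0, 2, 2, 2, 0, 0, 0, 0, 0, 0, 2, 0, 2, 0],
  [0, 0, 0, 0, 0, 0, 0, 0, 0, 0, 0, 0, 0, 0, 0, 0, 0, 0, 0, 0, 0, 0, 0, 0, 0, 0, 0, 0, 0, 0, 0, 0, 0, 0, 0, 0, 0, 0, 0, 0, 0, 2, 0, 2, 2, 2, 2, 2, 0, 0, 0, 0, 2, 2, 0, 0],
  [0, 0, 0, 0, 0, 0, 0, 0, 0, 0, 0, 0, 0, 0, 0, 0, 0, 0, 0, 0, 0, 0, 0, 0, 0, 0, 0, 0, 0, 0, 0, 0, 0, 0, 0, 0, 0, 0, 0, 0, 0, 0, 2, 2, 2, 0, 2, 0, 0, 0, 0, 0, 0, 2, 0, 2],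
  [0, 0, 0, 0, 0, 0, 0, 0, 0, 0, 0, 0, 0, 0, 0, 0, 0, 0, 0, 0, 0, 0, 0, 0, 0, 0, 0, 0, 0, 0, 0, 0, 0, 0, 0, 0, 0, 0, 0, 0, 0, 0, 0, 4, 0, 0, 0, 0, 0, 0, 0, 0, 0, 0, 0, 0],
  [0, 0, 0, 0, 0, 0, 0, 0, 0, 0, 0, 0, 0, 0, 0, 0, 0, 0, 0, 0, 0, 0, 0, 0, 0, 0, 0, 0, 0, 0, 0, 0, 0, 0, 0, 0, 0, 0, 0, 0, 0, 0, 0, 0, 4, 0, 0, 0, 0, 0, 0, 0, 0, 0, 0, 0],
  [0, 0, 0, 0, 0, 0, 0, 0, 0, 0, 0, 0, 0, 0, 0, 0, 0, 0, 0, 0, 0, 0, 0, 0, 0, 0, 0, 0, 0, 0, 0, 0, 0, 0, 0, 0, 0, 0, 0, 0, 0, 0, 0, 0, 0, 4, 0, 0, 0, 0, 0, 0, 0, 0, 0, 0],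
  [0, 0, 0, 0, 0, 0, 0, 0, 0, 0, 0, 0, 0, 0, 0, 0, 0, 0, 0, 0, 0, 0, 0, 0, 0, 0, 0, 0, 0, 0, 0, 0, 0, 0, 0, 0, 0, 0, 0, 0, 0, 0, 0, 0, 0, 0, 4, 0, 0, 0, 0, 0, 0, 0, 0, 0],
  [0, 0, 0, 0, 0, 0, 0, 0, 0, 0, 0, 0, 0, 0, 0, 0, 0, 0, 0, 0, 0, 0, 0, 0, 0, 0, 0, 0, 0, 0, 0, 0, 0, 0, 0, 0, 0, 0, 0, 0, 0, 0, 0, 0, 0, 0, 0, 4, 0, 0, 0, 0, 0, 0, 0, 0],
  [0, 0, 0, 0, 0, 0, 0, 0, 0, 0, 0, 0, 0, 0, 0, 0, 0, 0, 0, 0, 0, 0, 0, 0, 0, 0, 0, 0, 0, 0, 0, 0, 0, 0, 0, 0, 0, 0, 0, 0, 0, 0, 0, 0, 0, 0, 0, 0, 4, 0, 0, 0, 0, 0, 0, 0],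
  [0, 0, 0, 0, 0, 0, 0, 0, 0, 0, 0, 0, 0, 0, 0, 0, 0, 0, 0, 0, 0, 0, 0, 0, 0, 0, 0, 0, 0, 0, 0, 0, 0, 0, 0, 0, 0, 0, 0, 0, 0, 0, 0, 0, 0, 0, 0, 0, 0, 4, 0, 0, 0, 0, 0, 0],
  [0, 0, 0, 0, 0, 0, 0, 0, 0, 0, 0, 0, 0, 0, 0, 0, 0, 0, 0, 0, 0, 0, 0, 0, 0, 0, 0, 0, 0, 0, 0, 0, 0, 0, 0, 0, 0, 0, 0, 0, 0, 0, 0, 0, 0, 0, 0, 0, 0, 0, 4, 0, 0, 0, 0, 0],
  [0, 0, 0, 0, 0, 0, 0, 0, 0, 0, 0, 0, 0, 0, 0, 0, 0, 0, 0, 0, 0, 0, 0, 0, 0, 0, 0, 0, 0, 0, 0, 0, 0, 0, 0, 0, 0, 0, 0, 0, 0, 0, 0, 0, 0, 0, 0, 0, 0, 0, 0, 4, 0, 0, 0, 0],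
  [0, 0, 0, 0, 0, 0, 0, 0, 0, 0, 0, 0, 0, 0, 0, 0, 0, 0, 0, 0, 0, 0, 0, 0, 0, 0, 0, 0, 0, 0, 0, 0, 0, 0, 0, 0, 0, 0, 0, 0, 0, 0, 0, 0, 0, 0, 0, 0, 0, 0, 0, 0, 4, 0, 0, 0],
  [0, 0, 0, 0, 0, 0, 0, 0, 0, 0, 0, 0, 0, 0, 0, 0, 0, 0, 0, 0, 0, 0, 0, 0, 0, 0, 0, 0, 0, 0, 0, 0, 0, 0, 0, 0, 0, 0, 0, 0, 0, 0, 0, 0, 0, 0, 0, 0, 0, 0, 0, 0, 0, 4, 0, 0],
  [0, 0, 0, 0, 0, 0, 0, 0, 0, 0, 0, 0, 0, 0, 0, 0, 0, 0, 0, 0, 0, 0, 0, 0, 0, 0, 0, 0, 0, 0, 0, 0, 0, 0, 0, 0, 0, 0, 0, 0, 0, 0, 0, 0, 0, 0, 0, 0, 0, 0, 0, 0, 0, 0, 4, 0],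
  [0, 0, 0, 0, 0, 0, 0, 0, 0, 0, 0, 0, 0, 0, 0, 0, 0, 0, 0, 0, 0, 0, 0, 0, 0, 0, 0, 0, 0, 0, 0, 0, 0, 0, 0, 0, 0, 0, 0, 0, 0, 0, 0, 0, 0, 0, 0, 0, 0, 0, 0, 0, 0, 0, 0, 4]]

/-- The defining vectors in the basis. -/
def tableComb : List (List (ℕ × ℤ)) := [
  [(0, 4), (14, -2), (21, -2), (27, 3), (31, 1), (33, -2), (35, 2), (36, -2), (37, -2), (38, -2), (39, 2), (41, -2), (44, 1), (45, 3), (46, 4), (47, 4), (48, 2), (49, 2), (50, 3), (51, 1), (52, 5), (53, 3), (54, 5), (55, 2)],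
  [(1, 1), (2, 1), (3, 1), (12, 1), (13, -1), (14, -1), (15, -2), (20, 1), (21, -1), (22, -2), (23, -1), (24, 1), (25, 1), (26, 2), (27, 2), (28, -1), (31, -1), (34, -1), (35, -1), (36, -1), (37, -1), (39, -1), (40, -1), (41, -1), (43, 1), (44, 1), (45, 1), (46, 1), (47, 2), (48, 3), (49, 1), (52, 2), (53, 2), (54, 3), (55, 2)],
  [(1, 1), (2, -1), (3, -1), (12, 1), (13, -1), (20, 1), (23, 1), (24, 1), (26, -1), (27, 1), (28, -1), (31, -2), (32, 1), (35, -2), (36, 1), (38, 1), (39, -2), (46, -2), (47, -1), (48, -2), (49, -3), (50, -2), (51, -1), (52, -2), (53, -2), (54, -2), (55, -2)],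
  [(1, -1), (2, 1), (3, -1), (12, 1), (13, 1), (20, 1), (21, -1), (23, -1), (24, 1), (28, -1), (31, -2), (32, 1), (33, 1), (35, -2), (37, 1), (39, -3), (43, -1), (44, -2), (46, -1), (49, -2), (51, -1), (52, -1), (53, 1), (54, -1)],
  [(1, -1), (2, -1), (3, 1), (12, 1), (13, -1), (14, -1), (20, 1), (23, -1), (24, 1), (25, 1), (26, 1), (27, 1), (28, -1), (31, -2), (33, 1), (34, 1), (35, -1), (38, 1), (39, -2), (40, 1), (41, -1), (43, 1), (44, -1), (45, -1), (46, 1), (48, -1), (49, -2), (50, -1), (51, -2), (54, -1), (55, -2)],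
  [(0, 1), (1, 1), (2, 1), (3, 1), (4, 1), (7, -1), (8, 1), (9, -1), (13, -1), (14, -2), (16, 1), (18, -1), (21, -1), (22, -1), (23, -1), (25, 1), (26, 1), (27, 3), (31, 1), (33, -1), (34, -1), (36, -1), (37, -2), (38, -1), (40, -1), (41, -1), (42, -1), (43, 1), (44, 2), (45, 2), (46, 3), (47, 3), (48, 3), (49, 3), (50, 1), (52, 4), (53, 2), (54, 4), (55, 3)],
  [(0, 1), (1, 1), (2, 1), (3, 1), (5, -1), (10, -1), (12, -1), (17, 1), (20, -1), (24, -1), (31, 3), (33, -1), (35, 2), (36, -1), (37, -1), (38, -1), (39, 3), (44, 1), (45, 1), (46, 1), (48, 2), (49, 2), (50, 1), (51, 1), (52, 2), (53, 1), (54, 3), (55, 2)],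
  [(0, 1), (1, 1), (2, 1), (3, 1), (6, -1), (11, -1), (13, -1), (14, -1), (15, -1), (19, 1), (23, -1), (25, 1), (27, 1), (31, 2), (34, -1), (36, -1), (37, -1), (39, 1), (41, -1), (46, 2), (47, 3), (48, 3), (49, 2), (52, 3), (53, 1), (54, 2)],
  [(0, 1), (1, 1), (2, -1), (3, -1), (5, 1), (11, 1), (12, -1), (17, -1), (19, -1), (21, -1), (22, -1), (23, 1), (27, 2), (33, -1), (35, 1), (37, -1), (39, 1), (44, 2), (45, 2), (47, 1), (49, 1), (50, 1), (51, 1), (54, 1), (55, 1)],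
  [(0, 1), (1, 1), (2, -1), (3, -1), (6, -1), (10, -1), (13, 1), (16, -1), (17, 1), (18, 1), (19, 1), (21, 1), (23, 2), (24, -1), (25, -2), (26, -1), (27, -1), (31, 2), (32, 1), (33, -1), (35, 1), (36, 1), (39, 1), (40, 1), (44, -1), (45, -2), (46, -3), (47, -1), (48, -2), (50, -1), (51, 2), (52, -2), (53, -1), (54, -2), (55, -1)],
  [(0, 1), (1, 1), (2, -1), (3, -1), (4, 1), (7, 1), (13, -1), (17, -1), (18, -1), (22, -1), (25, 1), (26, 1), (27, 2), (33, -2), (34, -1), (35, 1), (41, -1), (42, -1), (43, 1), (44, 2), (45, 2), (46, 1), (47, 2), (48, 1), (49, 1), (50, 2), (51, 2), (52, 2), (54, 1), (55, 1)],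
  [(0, 1), (1, 1), (2, -1), (3, -1), (8, 1), (9, 1), (17, -1), (18, -1), (20, 1), (21, -1), (22, -1), (25, 1), (26, 1), (27, 3), (31, -1), (33, -1), (37, -1), (38, -1), (39, 1), (43, -2), (44, 1), (45, 1), (47, 1), (49, 2), (50, 1), (51, 2), (52, 1), (54, 2), (55, 1)],
  [(0, 1), (1, -1), (2, 1), (3, -1), (10, 1), (13, 1), (21, -1), (22, 1), (23, -1), (24, -1), (36, -1), (38, -1), (39, 1), (43, -1), (45, 1), (46, 1), (47, 2), (48, 1), (49, 1), (50, 3), (52, 1), (53, 2), (54, 1), (55, 1)],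
  [(0, 1), (1, -1), (2, 1), (3, -1), (4, -1), (7, 1), (11, -1), (13, 1), (14, 1), (15, -1), (20, -1), (22, 2), (23, 1), (26, -1), (27, -2), (31, 1), (35, 1), (37, 1), (38, -1), (42, 1), (43, -1), (44, -1), (45, 1), (46, 1), (47, 1), (48, -1), (49, -1), (53, 1)],
  [(0, 1), (1, -1), (2, 1), (3, -1), (6, -1), (8, 1), (9, 1), (13, 1), (17, -1), (18, -1), (21, -1), (22, 1), (32, 1), (33, 1), (35, -1), (36, -1), (38, -2), (39, 1), (40, 1), (42, 1), (43, -3), (44, -2), (45, 1), (46, 2), (47, 3), (49, 1), (50, 1), (51, 1), (52, 1), (53, 2), (54, 2), (55, 1)],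
  [(0, 1), (1, -1), (2, 1), (3, -1), (5, 1), (12, 1), (14, -1), (15, -1), (16, 1), (17, -1), (19, -1), (21, -1), (22, 1), (25, 1), (27, 1), (31, -1), (34, -1), (36, -1), (37, 1), (38, -1), (39, -2), (40, -1), (41, -1), (43, 1), (45, 3), (46, 3), (47, 3), (48, -1), (50, 1), (52, 2), (53, 3), (54, 1), (55, 2)],
  [(0, 1), (1, -1), (2, -1), (3, 1), (6, 1), (13, -1), (14, -1), (15, 1), (20, -1), (27, 1), (32, -1), (34, 1), (35, 2), (36, -1), (37, -1), (39, 1), (41, -1), (43, 2), (44, 1), (45, 1), (46, 3), (47, 1), (50, 1), (51, -1), (52, 2), (54, 2)],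
  [(0, 1), (1, -1), (2, -1), (3, 1), (5, -1), (8, -1), (9, 1), (12, -1), (13, 1), (15, 2), (22, 1), (25, -1), (26, -1), (27, -1), (34, 1), (35, 1), (36, -1), (39, 2), (40, 2), (41, -1), (42, 1), (43, -2), (44, -1), (45, -1), (46, 1), (47, -1), (49, -1), (50, 1), (51, -1), (52, 1), (53, -1), (54, -1), (55, -2)],
  [(0, 1), (1, -1), (2, -1), (3, 1), (11, -1), (14, -1), (15, 1), (16, 1), (21, 1), (22, 1), (26, -1), (32, -1), (34, 1), (35, 1), (38, 1), (39, -1), (40, 1), (41, -1), (44, -1), (45, -1), (46, 2), (48, -2), (49, -1), (50, -1), (51, -2), (53, -1), (54, -2), (55, -2)],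
  [(0, 1), (1, -1), (2, -1), (3, 1), (4, 1), (7, 1), (10, 1), (13, -1), (14, -1), (15, 1), (17, -1), (18, -1), (22, -1), (23, -1), (24, 1), (26, 1), (27, 1), (31, -1), (32, -1), (33, -1), (35, 1), (36, -1), (37, -1), (40, 1), (41, -2), (45, 1), (46, 4), (47, 3), (48, 2), (49, 1), (50, 2), (52, 3), (54, 2)]]

/-- The images of the basis in the basis. -/
def combgI : List (List (ℕ × ℤ)) := [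
  [(3, 1), (5, -1), (7, 1), (8, -1), (9, -1), (10, -1), (11, -1), (13, -1), (15, -1), (16, -1), (17, 3), (18, 1), (19, 2), (20, -1), (21, 2), (22, 1), (25, -1), (26, -1), (27, -3), (28, 1), (31, 3), (32, -1), (33, -1), (35, 2), (36, 1), (37, 1), (38, 1), (41, -1), (43, 3), (44, -2), (45, -2), (46, -2), (47, -2), (49, -1), (50, -1), (53, -1), (54, -2), (55, -2)],
  [(3, 1), (5, -1), (6, -1), (7, -2), (9, -1), (11, 1), (12, -1), (13, 2), (15, 1), (16, 1), (17, 1), (21, 1), (24, -2), (25, -1), (27, -1), (29, 1), (31, 2), (32, 1), (33, 1), (34, 1), (35, -1), (36, -1), (37, -1), (39, 3), (40, 1), (41, 1), (42, 1), (43, -2), (45, -3), (46, -2), (47, -1), (49, 1), (51, -2), (52, -2), (53, -1), (54, -1)],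
  [(3, 1), (6, -1), (7, -1), (8, -1), (10, -1), (11, -2), (12, -1), (13, 1), (16, -2), (17, 4), (18, 2), (19, 3), (20, 1), (21, 1), (22, 1), (23, -1), (24, -1), (25, -2), (26, -2), (27, -3), (30, 1), (31, 4), (33, 1), (35, 1), (36, 1), (37, 1), (38, 1), (40, 1), (42, 1), (43, 1), (44, -5), (45, -5), (46, -5), (47, -4), (48, 1), (49, 1), (50, -1), (51, 1), (52, -1), (54, -4), (55, -4)],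
  [(3, 1), (4, -1), (7, 1), (8, -1), (9, -1), (13, -1), (15, -1), (16, -1), (18, 2), (22, -1), (24, 1), (26, 1), (31, 1), (32, -1), (35, 1), (38, 1), (42, 1), (43, 1), (44, -1), (45, -1), (47, -1), (48, 2), (49, -1), (55, -1)],
  [(5, -1), (6, -1), (7, -1), (11, -2), (13, 1), (15, 1), (16, -1), (17, 2), (19, 3), (21, 2), (22, 3), (24, -2), (25, -1), (26, -3), (27, -3), (31, 3), (32, 2), (33, 1), (34, 1), (35, -1), (36, 1), (37, 1), (38, 1), (39, 1), (40, 1), (41, 1), (42, 1), (43, -1), (44, -3), (45, -5), (46, -4), (47, -2), (48, -2), (49, -2), (50, -2), (51, -1), (52, -2), (53, -3), (54, -4), (55, -5)],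
  [(4, -1), (6, -1), (7, 1), (11, -2), (12, -1), (13, 1), (14, 1), (16, -2), (17, 2), (18, 1), (19, 3), (20, -2), (21, 3), (22, 2), (23, 2), (24, -2), (25, -3), (26, -3), (27, -6), (31, 5), (33, 1), (35, 3), (36, 1), (37, 1), (38, 1), (39, 3), (40, 1), (41, 1), (42, 2), (44, -3), (45, -4), (46, -3), (47, -1), (48, -1), (50, -1), (51, 1), (52, -3), (53, -3), (54, -2), (55, -4)],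
  [(3, -2), (4, -1), (5, -1), (7, 1), (11, -2), (12, -1), (13, 2), (14, 2), (15, 1), (16, 1), (17, 1), (18, -1), (20, -1), (21, 1), (22, 3), (23, 1), (24, -2), (26, -3), (27, -2), (31, 2), (32, 1), (34, 1), (36, 2), (37, 2), (38, 1), (40, 1), (41, 2), (42, 1), (43, -3), (44, -1), (45, -1), (46, -3), (47, -3), (48, -3), (49, -2), (50, -1), (52, -4), (53, -4), (54, -5), (55, -3)],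
  [(4, -1), (5, -1), (6, -1), (13, 1), (14, 1), (16, -2), (17, 2), (18, 2), (19, 2), (20, 1), (22, 1), (23, 1), (24, -2), (25, -3), (26, -1), (27, -3), (31, 2), (32, 1), (33, 1), (34, 1), (39, 3), (40, 1), (41, 1), (42, 1), (43, -1), (44, -3), (45, -4), (46, -4), (47, -3), (49, -1), (51, 1), (52, -3), (54, -1), (55, -3)],
  [(9, -1), (10, -1), (11, -1), (15, -1), (16, -2), (17, 2), (18, 2), (19, 2), (20, -1), (21, 2), (22, 1), (23, 2), (24, -2), (25, -2), (26, -1), (27, -3), (31, 4), (35, 3), (36, 2), (37, 1), (38, 1), (43, 4), (44, -1), (45, -3), (46, -3), (47, -2), (48, -2), (49, -1), (50, -1), (51, 1), (52, -2), (54, -3), (55, -2)],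
  [(3, -2), (8, -1), (10, -1), (11, 1), (13, 1), (14, 1), (15, -1), (16, -1), (17, 1), (18, 1), (20, -2), (21, 1), (22, 2), (23, 3), (25, -2), (26, -2), (27, -4), (31, 1), (32, 1), (35, 1), (36, 1), (37, 2), (41, 1), (43, 2), (46, -3), (47, -1), (48, -4), (49, -3), (50, -1), (52, -3), (54, -3), (55, 1)],
  [(3, -2), (7, -2), (8, -1), (9, -1), (11, 1), (13, 2), (14, 1), (16, 1), (17, 1), (18, 2), (20, 1), (21, -1), (22, 2), (24, -1), (25, -1), (26, -1), (27, -1), (31, -1), (32, 2), (33, 1), (34, 1), (35, -3), (36, 1), (37, 1), (38, 1), (39, -2), (41, 2), (43, -1), (44, -1), (45, -2), (46, -6), (47, -4), (48, -3), (49, -3), (50, -1), (51, -3), (52, -5), (53, -1), (54, -6), (55, -2)],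
  [(3, -2), (8, -1), (9, -1), (10, -1), (13, 1), (14, 1), (17, 2), (20, -2), (21, 1), (22, 3), (23, 2), (24, -1), (25, -1), (26, -3), (27, -3), (31, 2), (32, 1), (35, 1), (36, 2), (37, 2), (38, 1), (39, -1), (41, 1), (43, 2), (46, -4), (47, -2), (48, -4), (49, -3), (50, -1), (51, -1), (52, -3), (53, -1), (54, -5)],
  [(3, -2), (7, -2), (11, -2), (12, -1), (13, 2), (14, 1), (15, 1), (16, -2), (17, 2), (18, 1), (19, 2), (20, -2), (21, 1), (22, 3), (23, 2), (24, -2), (25, -2), (26, -4), (27, -3), (31, 4), (32, 2), (33, 1), (34, 1), (35, 1), (36, 2), (37, 2), (38, 1), (39, 1), (40, 1), (41, 3), (42, 1), (44, -2), (45, -5), (46, -6), (47, -3), (48, -3), (49, -2), (50, -1), (52, -4), (53, -3), (54, -5), (55, -4)],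
  [(15, -1), (17, -1), (18, -1), (24, -2), (25, 2), (26, 1), (27, 1), (31, 1), (35, 1), (39, 1), (41, 1), (43, 1), (44, 2), (47, 1), (49, 1), (50, 1), (51, 1), (52, 1), (53, 1), (54, 1), (55, 2)],
  [(15, -1), (18, -1), (19, -1), (24, -2), (25, 2), (26, 1), (27, 1), (31, 1), (35, 1), (39, 1), (42, 1), (43, 1), (44, 2), (45, 1), (47, 1), (49, 1), (50, 1), (51, 1), (52, 1), (53, 1), (54, 1), (55, 2)],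
  [(15, -1), (16, -2), (17, 1), (18, 1), (25, -1), (27, -1), (31, 1), (35, 1), (39, 1), (43, 2), (45, -1), (46, -1), (48, 1), (50, 1), (51, 1), (53, 2), (54, 1)],
  [(3, -2), (7, -2), (11, -2), (13, 2), (14, 1), (16, -1), (17, 3), (18, 2), (19, 1), (20, -2), (21, 2), (22, 3), (23, 1), (24, -2), (25, -2), (26, -4), (27, -3), (31, 3), (32, 2), (33, 1), (34, 1), (36, 2), (37, 2), (38, 1), (41, 2), (43, 1), (44, -1), (45, -4), (46, -5), (47, -3), (48, -4), (49, -2), (50, -2), (51, -1), (52, -5), (53, -2), (54, -6), (55, -3)],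
  [(16, -2), (17, 1), (24, -2), (31, 2), (35, 2), (39, 2), (43, 2), (44, 1), (46, -1), (48, 1), (49, 1), (50, 2), (51, 2), (52, 1), (53, 2), (54, 2), (55, 1)],
  [(16, -2), (18, 1), (24, -2), (31, 2), (35, 2), (39, 2), (43, 2), (44, 1), (45, -1), (48, 1), (49, 1), (50, 2), (51, 2), (52, 1), (53, 2), (54, 1)],
  [(16, -2), (19, 1), (25, -1), (27, -1), (31, 1), (35, 1), (39, 1), (43, 1), (45, -1), (46, -1), (47, 1), (48, 1), (50, 1), (51, 1), (52, 1), (53, 1), (54, 1)],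
  [(3, -2), (7, -2), (11, -2), (13, 2), (14, 1), (16, -2), (17, 3), (18, 1), (19, 1), (20, -1), (21, 1), (22, 3), (23, 1), (24, -2), (25, -1), (26, -4), (27, -3), (31, 3), (32, 2), (33, 1), (34, 1), (36, 2), (37, 2), (38, 1), (41, 2), (43, 1), (44, -1), (45, -4), (46, -6), (47, -3), (48, -3), (49, -2), (50, -1), (52, -4), (53, -1), (54, -5), (55, -3)],
  [(20, -2), (21, 1), (24, -2), (31, 2), (35, 2), (39, 2), (43, 2), (44, 2), (46, 1), (47, 1), (49, 2), (50, 1), (51, 1), (52, 1), (54, 1), (55, 2)],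
  [(20, -2), (22, 1), (26, -1), (27, -1), (31, 1), (35, 1), (39, 1), (43, 1), (44, 1), (46, 1), (47, 1), (50, 1), (52, 1), (54, 1), (55, 1)],
  [(20, -2), (23, 1), (24, -2), (31, 2), (35, 2), (39, 2), (43, 2), (44, 2), (46, 1), (47, 1), (49, 1), (50, 1), (51, 2), (52, 1), (53, 1), (54, 2), (55, 2)],
  [(3, -2), (7, -2), (11, -2), (13, 2), (14, 1), (16, -2), (17, 3), (18, 2), (19, 2), (22, 2), (24, -1), (25, -2), (26, -3), (27, -2), (31, 2), (32, 2), (33, 1), (34, 1), (35, -1), (36, 2), (37, 2), (38, 1), (39, -1), (41, 2), (44, -3), (45, -5), (46, -7), (47, -4), (48, -2), (49, -2), (50, -1), (52, -4), (53, -1), (54, -5), (55, -4)],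
  [(53, 1)],
  [(54, 1)],
  [(55, 1)],
  [(0, -1), (3, 1), (4, -1), (5, -1), (7, -2), (10, -1), (11, 1), (12, -1), (13, 2), (14, 1), (15, 1), (16, -2), (17, 2), (18, 2), (19, 1), (21, 1), (23, 1), (24, -1), (25, -3), (26, -1), (27, -3), (31, 2), (32, 1), (33, 2), (34, 2), (39, 3), (40, 1), (41, 2), (42, 1), (43, -1), (44, -2), (45, -5), (46, -5), (47, -5), (48, -1), (49, -1), (50, -2), (51, -1), (52, -4), (53, -1), (54, -2), (55, -2)],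
  [(1, -1), (3, 1), (4, -1), (5, -1), (6, -1), (7, -1), (8, -1), (11, 1), (12, -1), (13, 2), (14, 1), (15, 1), (16, -2), (17, 1), (18, 2), (19, 2), (20, -1), (21, 1), (22, 3), (23, 1), (24, -2), (25, -3), (26, -2), (27, -5), (31, 3), (32, 1), (33, 2), (34, 2), (35, 1), (36, -1), (39, 5), (40, 2), (41, 1), (42, 2), (43, -1), (44, -2), (45, -5), (46, -3), (47, -2), (48, -1), (49, -2), (51, -2), (52, -2), (53, -1), (54, -2), (55, -4)],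
  [(2, -1), (3, 1), (4, -1), (6, -1), (7, -2), (9, -1), (10, -1), (11, -2), (13, 1), (15, 2), (16, -1), (17, 4), (18, 3), (19, 2), (20, 1), (21, 2), (22, 1), (23, 2), (24, 1), (25, -4), (26, -5), (27, -3), (31, 2), (32, 1), (33, 2), (34, 2), (35, -2), (36, 2), (37, 1), (38, 2), (39, -2), (40, 1), (41, 1), (42, 1), (43, -2), (44, -7), (45, -7), (46, -6), (47, -7), (48, -4), (49, -4), (50, -7), (51, -3), (52, -7), (53, -4), (54, -7), (55, -8)],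
  [(3, -4), (13, 2), (14, 2), (22, 2), (23, 2), (25, -1), (26, -2), (27, -2), (31, -1), (32, 2), (35, -2), (36, 2), (37, 2), (39, -2), (41, 2), (43, -2), (44, -1), (46, -5), (47, -2), (48, -4), (49, -3), (50, -1), (52, -5), (53, -2), (54, -5), (55, -1)],
  [(4, -2), (7, -2), (13, 2), (14, 1), (15, 1), (17, 1), (18, 2), (21, -1), (22, 1), (23, 1), (25, -2), (26, -2), (27, -1), (32, 1), (33, 2), (34, 2), (35, -2), (39, 1), (41, 2), (42, 1), (43, -3), (44, -2), (45, -3), (46, -3), (47, -4), (48, -2), (49, -2), (50, -3), (51, -2), (52, -4), (53, -1), (54, -2), (55, -3)],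
  [(5, -2), (7, -2), (13, 2), (14, 1), (15, 2), (17, 2), (18, 1), (19, 1), (21, 1), (22, 1), (23, -1), (24, -2), (25, -1), (26, -1), (27, -1), (31, 1), (32, 2), (33, 1), (34, 2), (35, -2), (39, 2), (40, 1), (41, 1), (43, -2), (44, -1), (45, -4), (46, -4), (47, -4), (48, -1), (49, -1), (50, -1), (51, -2), (52, -3), (53, -2), (54, -3), (55, -2)],
  [(6, -2), (7, -2), (13, 2), (15, 1), (17, 1), (18, 1), (19, 1), (20, -2), (21, 1), (22, 2), (23, 1), (24, -2), (25, -2), (26, -2), (27, -3), (31, 3), (32, 2), (33, 2), (34, 1), (35, -1), (39, 3), (40, 1), (41, 1), (42, 1), (43, -1), (44, -1), (45, -4), (46, -2), (48, -2), (50, -2), (51, -1), (52, -2), (53, -1), (54, -2), (55, -2)],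
  [(7, -4), (13, 2), (15, 2), (17, 2), (18, 2), (22, 2), (25, -2), (26, -3), (27, -1), (32, 2), (33, 2), (34, 2), (35, -3), (41, 2), (43, -2), (44, -2), (45, -4), (46, -4), (47, -4), (48, -3), (49, -2), (50, -3), (51, -4), (52, -4), (53, -1), (54, -4), (55, -3)],
  [(8, -2), (11, -2), (17, 2), (20, -2), (21, 2), (22, 2), (23, 1), (26, -4), (27, -3), (31, 2), (35, 1), (36, 1), (37, 2), (38, 2), (39, -1), (43, 2), (45, -1), (46, -1), (47, -1), (48, -2), (49, -3), (50, -2), (51, -2), (52, -1), (53, -2), (54, -4), (55, -2)],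
  [(9, -2), (11, -2), (16, -2), (17, 3), (18, 2), (19, 2), (20, -2), (21, 2), (22, 2), (23, 2), (25, -3), (26, -4), (27, -4), (31, 4), (35, 2), (36, 2), (37, 1), (38, 2), (39, -1), (43, 3), (44, -2), (45, -4), (46, -3), (47, -2), (48, -1), (49, -3), (50, -2), (51, -1), (52, -3), (53, -2), (54, -4), (55, -4)],
  [(10, -2), (11, -2), (17, 1), (18, -1), (19, 1), (22, 1), (24, -2), (25, 1), (26, -1), (31, 3), (35, 2), (36, 2), (37, 2), (38, 1), (39, -2), (43, 2), (44, -1), (45, -1), (46, -2), (47, -2), (48, -2), (50, -1), (51, 2), (52, 1), (54, -2), (55, -1)],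
  [(11, -4), (17, 2), (19, 2), (21, 2), (22, 2), (26, -3), (27, -2), (31, 2), (36, 2), (37, 2), (38, 2), (39, -3), (44, -3), (45, -3), (46, -2), (47, -2), (48, -2), (49, -2), (50, -3), (51, -1), (52, -2), (53, -3), (54, -5), (55, -5)],
  [(12, -2), (13, 1), (14, 1), (16, -2), (18, 1), (19, 1), (24, -2), (25, -1), (27, -1), (31, 3), (35, 3), (39, 3), (40, 1), (41, 1), (42, 1), (45, -2), (46, -2), (47, -1), (48, 2), (49, 2), (50, 3), (51, 2), (55, -1)],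
  [(13, -1), (15, -1), (16, -2), (24, -2), (25, 1), (26, 1), (27, 1), (31, 2), (35, 2), (39, 2), (43, 3), (44, 2), (47, 1), (48, 1), (49, 1), (50, 2), (51, 2), (52, 2), (53, 2), (54, 2), (55, 1)],
  [(14, -1), (15, -1), (16, -2), (17, 1), (19, 1), (25, -1), (27, -1), (31, 1), (35, 1), (39, 1), (43, 2), (45, -1), (46, -1), (47, 1), (48, 1), (50, 1), (51, 1), (52, 1), (53, 1), (54, 1)],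
  [(15, -2), (25, 1), (26, 1), (43, 1), (44, 1), (47, 1), (53, 1), (55, 1)],
  [(16, -4), (17, 2), (18, 2), (19, 2), (25, -3), (26, -1), (27, -2), (31, 2), (35, 2), (39, 2), (43, 2), (44, -2), (45, -3), (46, -3), (47, -1), (48, 2), (50, 2), (51, 2), (53, 1), (54, 1), (55, -2)],
  [(17, -2), (25, 1), (26, 1), (27, 1), (44, 1), (46, 1), (47, 1), (52, 1)],
  [(18, -2), (25, 1), (44, 1), (45, 1), (47, 1), (52, 1), (54, 1), (55, 1)],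
  [(19, -2), (25, 1), (27, 1), (44, 1), (45, 1), (46, 1), (53, 1), (55, 1)],
  [(20, -4), (21, 2), (22, 2), (23, 2), (25, -1), (26, -2), (27, -3), (31, 2), (35, 2), (39, 2), (43, 2), (44, 2), (46, 2), (47, 2), (48, -2), (49, -1), (50, -1), (51, -1), (53, -1), (55, 1)],
  [(21, -2), (27, 1), (48, 1), (50, 1), (51, 1), (52, 1), (53, 1), (54, 1)],
  [(22, -2), (26, 1), (27, 1), (48, 1), (49, 1), (51, 1), (54, 1), (55, 1)],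
  [(23, -2), (25, 1), (26, 1), (27, 1), (48, 1), (49, 1), (50, 1), (52, 1)],
  [(24, -4), (25, 1), (26, 1), (27, 1), (31, 2), (35, 2), (39, 2), (43, 2), (44, 2), (49, 2), (50, 2), (51, 2), (52, 1), (53, 1), (54, 1), (55, 1)],
  [(25, -1)],
  [(26, -1)],
  [(27, -1)]]

/-- The images of the basis. -/
def imggI : List (List ℤ) := [
  [0, 0, 0, 1, 0, -1, 0, 1, -1, -1, -1, -1, 0, -1, 0, -2, -1, 1, 0, 0, -1, 0, 0, -2, 0, -1, 0, 0, 1, 0, 0, 0, 0, 0, 0, 0, 0, 0, 0, 0, 0, 0, 1, 0, 0, 0, 0, 0, 0, 1, 0, 0, 0, 0, 0, -1],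
  [0, 0, 0, 1, 0, -1, -1, -2, 0, -1, 0, 1, -1, 0, -1, -2, 1, 0, -2, -1, 0, 0, -2, -1, -2, -2, -2, -2, 0, 1, 0, 0, 0, 0, 0, 0, 0, 0, 0, 0, 0, 1, 0, 1, 0, 0, 0, 0, 0, 0, 1, 0, 0, 0, 1, -1],
  [0, 0, 0, 1, 0, 0, -1, -1, -1, 0, -1, -2, -1, 0, 0, -2, -2, 1, 0, 1, 1, 0, -1, -2, -1, 1, 1, 1, 0, 0, 1, 0, 0, 0, 0, 0, 0, 0, 0, 0, 0, 0, 0, 1, 0, 0, 0, 0, 0, 1, 0, 1, 0, 1, 1, 2],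
  [0, 0, 0, 1, -1, 0, 0, 1, -1, -1, 0, 0, 0, -1, 0, -1, -1, -2, 1, -2, 0, -1, -2, -1, 1, -1, 1, -2, 0, 0, 0, 1, 0, 0, 0, 0, 0, 0, 0, 0, 0, 1, 1, 0, 0, 0, 0, 0, 0, 0, 1, 1, 0, 1, 0, 2],
  [0, 0, 0, 0, 0, -1, -1, -1, 0, 0, 0, -2, 0, -1, -1, 0, -1, -1, -2, 1, 0, 0, 1, -1, -2, 0, -2, 0, 0, 0, 0, 0, 1, 0, 0, 0, 0, 0, 0, 0, 0, 1, 1, 0, 0, 0, 1, 0, 0, 0, 1, 1, 0, 2, 0, 2],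
  [0, 0, 0, 0, -1, 0, -1, 1, 0, 0, 0, -2, -1, 0, 0, 0, -2, 1, 0, 1, -2, 1, -1, 0, -2, 0, 0, -2, 0, 0, 0, 0, 0, 1, 0, 0, 0, 0, 0, 0, 0, 1, 1, 1, 0, 1, 0, 1, 0, 1, 1, 0, 0, 2, 2, 2],
  [0, 0, 0, -2, -1, -1, 0, 1, 0, 0, 0, -2, -1, 0, -1, 1, 1, 1, -1, -2, -1, -2, 0, -2, -2, -2, -2, 0, 0, 0, 0, 0, 0, 0, 1, 0, 0, 0, 0, 0, 0, 1, 0, 0, 0, 0, 0, 1, 0, 1, 1, 1, 0, 0, 0, 0],
  [0, 0, 0, 0, -1, -1, -1, 0, 0, 0, 0, 0, 0, -1, 0, -1, -2, 1, 1, 0, 1, -1, 0, 1, -2, -2, 0, -2, 0, 0, 0, 0, 0, 0, 0, 1, 0, 0, 0, 0, 0, 1, 0, 1, 0, 1, 1, 0, 0, 0, 1, 0, 0, 2, 0, 2],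
  [0, 0, 0, 0, 0, 0, 0, 0, 0, -1, -1, -1, 0, 0, 0, -2, -2, -1, 1, 0, -1, 1, 0, 1, -2, 0, 1, -1, 0, 0, 0, 0, 0, 0, 0, 0, 1, 0, 0, 0, 0, 0, 0, 0, 0, 1, 1, 0, 0, 0, 1, 0, 0, 2, -1, -1],
  [0, 0, 0, -2, 0, 0, 0, 0, -1, 0, -1, 1, 0, 0, 0, -2, -1, 0, 0, 0, -2, 1, 0, 1, 0, -1, 1, 0, 0, 0, 0, 0, 0, 0, 0, 0, 0, 1, 0, 0, 0, 0, 0, 0, 0, 1, 1, 1, 0, 1, 0, 1, 0, 1, 1, 2],
  [0, 0, 0, -2, 0, 0, 0, -2, -1, -1, 0, 1, 0, 0, 0, -2, 1, 0, 1, 1, 1, -1, 1, -2, -1, -2, 0, -2, 0, 0, 0, 0, 0, 0, 0, 0, 0, 0, 1, 0, 0, 0, 0, 0, 0, 1, 0, 0, 0, 0, 0, 1, 0, 1, 1, 1],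
  [0, 0, 0, -2, 0, 0, 0, 0, -1, -1, -1, 0, 0, 0, 0, 0, 0, 1, -2, -1, -2, -1, 1, -2, -1, -1, 0, 1, 0, 0, 0, 0, 0, 0, 0, 0, 0, 0, 0, 1, 0, 0, 0, 0, 0, 1, 0, 1, 0, 1, 1, 0, 0, 2, -1, 2],
  [0, 0, 0, -2, 0, 0, 0, -2, 0, 0, 0, -2, -1, -1, -1, -1, -2, -2, -2, 0, -2, -2, -2, 0, -2, 0, 0, 0, 0, 0, 0, 0, 0, 0, 0, 0, 0, 0, 0, 0, 1, 1, 1, 1, 0, 0, 0, 0, 0, 0, 0, 0, 0, 0, 0, 0],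
  [0, 0, 0, 0, 0, 0, 0, 0, 0, 0, 0, 0, 0, 0, 0, -2, 0, -2, -2, 0, 0, 0, 0, 0, -2, 0, -2, 0, 0, 0, 0, 0, 0, 0, 0, 0, 0, 0, 0, 0, 0, 2, 0, 0, 0, 0, 0, 0, 0, 0, 0, 0, 0, 2, 0, 2],
  [0, 0, 0, 0, 0, 0, 0, 0, 0, 0, 0, 0, 0, 0, 0, -2, 0, 0, -2, -2, 0, 0, 0, 0, -2, 0, 0, 0, 0, 0, 0, 0, 0, 0, 0, 0, 0, 0, 0, 0, 0, 0, 2, 0, 0, 0, 0, 0, 0, 0, 0, 0, 0, 0, 0, 2],
  [0, 0, 0, 0, 0, 0, 0, 0, 0, 0, 0, 0, 0, 0, 0, -2, -2, 0, 0, -2, 0, 0, 0, 0, 0, -2, 0, -2, 0, 0, 0, 0, 0, 0, 0, 0, 0, 0, 0, 0, 0, 0, 0, 2, 0, 0, 0, 0, 0, 0, 0, 0, 0, 2, 2, 0],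
  [0, 0, 0, -2, 0, 0, 0, -2, 0, 0, 0, -2, 0, 0, 0, -2, -1, 1, 1, -1, -2, 0, -2, -2, -2, -2, -2, 0, 0, 0, 0, 0, 0, 0, 0, 0, 0, 0, 0, 0, 0, 0, 0, 0, 1, 1, 1, 1, 0, 0, 0, 0, 0, 0, 0, 0],
  [0, 0, 0, 0, 0, 0, 0, 0, 0, 0, 0, 0, 0, 0, 0, 0, -2, 0, -2, -2, 0, 0, 0, 0, -2, 0, 0, 0, 0, 0, 0, 0, 0, 0, 0, 0, 0, 0, 0, 0, 0, 0, 0, 0, 0, 2, 0, 0, 0, 0, 0, 0, 0, 2, 2, 2],
  [0, 0, 0, 0, 0, 0, 0, 0, 0, 0, 0, 0, 0, 0, 0, 0, -2, -2, 0, -2, 0, 0, 0, 0, -2, 0, -2, -2, 0, 0, 0, 0, 0, 0, 0, 0, 0, 0, 0, 0, 0, 0, 0, 0, 0, 0, 2, 0, 0, 0, 0, 0, 0, 2, 0, 0],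
  [0, 0, 0, 0, 0, 0, 0, 0, 0, 0, 0, 0, 0, 0, 0, 0, -2, -2, -2, 0, 0, 0, 0, 0, 0, -2, 0, -2, 0, 0, 0, 0, 0, 0, 0, 0, 0, 0, 0, 0, 0, 0, 0, 0, 0, 0, 0, 2, 0, 0, 0, 0, 0, 2, 0, 2],
  [0, 0, 0, -2, 0, 0, 0, -2, 0, 0, 0, -2, 0, 0, 0, -2, -2, 0, -2, -2, -1, -1, -1, -1, -2, 0, -2, -2, 0, 0, 0, 0, 0, 0, 0, 0, 0, 0, 0, 0, 0, 0, 0, 0, 0, 0, 0, 0, 1, 1, 1, 1, 0, 0, 0, 0],
  [0, 0, 0, 0, 0, 0, 0, 0, 0, 0, 0, 0, 0, 0, 0, 0, 0, 0, 0, 0, -2, 0, -2, -2, -2, -2, -2, 0, 0, 0, 0, 0, 0, 0, 0, 0, 0, 0, 0, 0, 0, 0, 0, 0, 0, 0, 0, 0, 0, 2, 0, 0, 0, 0, 0, 2],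
  [0, 0, 0, 0, 0, 0, 0, 0, 0, 0, 0, 0, 0, 0, 0, 0, 0, 0, 0, 0, -2, -2, 0, -2, 0, 0, -2, -2, 0, 0, 0, 0, 0, 0, 0, 0, 0, 0, 0, 0, 0, 0, 0, 0, 0, 0, 0, 0, 0, 0, 2, 0, 0, 0, 2, 2],
  [0, 0, 0, 0, 0, 0, 0, 0, 0, 0, 0, 0, 0, 0, 0, 0, 0, 0, 0, 0, -2, -2, -2, 0, -2, 0, 0, 0, 0, 0, 0, 0, 0, 0, 0, 0, 0, 0, 0, 0, 0, 0, 0, 0, 0, 0, 0, 0, 0, 0, 0, 2, 0, 2, 2, 2],
  [0, 0, 0, -2, 0, 0, 0, -2, 0, 0, 0, -2, 0, 0, 0, -2, -2, 0, 0, 0, 0, -2, -2, -2, -1, -1, -1, -1, 0, 0, 0, 0, 0, 0, 0, 0, 0, 0, 0, 0, 0, 0, 0, 0, 0, 0, 0, 0, 0, 0, 0, 0, 1, 1, 1, 1],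
  [0, 0, 0, 0, 0, 0, 0, 0, 0, 0, 0, 0, 0, 0, 0, 0, 0, 0, 0, 0, 0, 0, 0, 0, 0, 0, 0, 0, 0, 0, 0, 0, 0, 0, 0, 0, 0, 0, 0, 0, 0, 0, 0, 0, 0, 0, 0, 0, 0, 0, 0, 0, 0, 4, 0, 0],
  [0, 0, 0, 0, 0, 0, 0, 0, 0, 0, 0, 0, 0, 0, 0, 0, 0, 0, 0, 0, 0, 0, 0, 0, 0, 0, 0, 0, 0, 0, 0, 0, 0, 0, 0, 0, 0, 0, 0, 0, 0, 0, 0, 0, 0, 0, 0, 0, 0, 0, 0, 0, 0, 0, 4, 0],
  [0, 0, 0, 0, 0, 0, 0, 0, 0, 0, 0, 0, 0, 0, 0, 0, 0, 0, 0, 0, 0, 0, 0, 0, 0, 0, 0, 0, 0, 0, 0, 0, 0, 0, 0, 0, 0, 0, 0, 0, 0, 0, 0, 0, 0, 0, 0, 0, 0, 0, 0, 0, 0, 0, 0, 4],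
  [-1, 0, 0, 1, -1, -1, 0, -2, 0, 0, -1, 1, -1, 0, -1, -2, -2, -1, -1, 0, 0, 1, -2, 1, -1, -1, -1, -1, 0, 0, 0, 0, 0, 0, 0, 0, 0, 0, 0, 0, 0, 0, 0, 0, 0, 0, 0, 0, 0, 0, 0, 0, 0, 0, 0, 0],
  [0, -1, 0, 1, -1, -1, -1, -1, -1, 0, 0, 1, -1, -1, 0, -2, -2, -2, -1, 1, -1, 0, 1, 0, -2, -1, -1, 0, 0, 0, 0, 0, 0, 0, 0, 0, 0, 0, 0, 0, 0, 0, 0, 0, 0, 0, 0, 0, 0, 0, 0, 0, 0, 0, 0, 0],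
  [0, 0, -1, 1, -1, 0, -1, -2, 0, -1, -1, -2, 0, -1, 0, 1, -1, 1, 1, -1, 1, 0, -2, 1, 1, 1, -2, 0, 0, 0, 0, 0, 0, 0, 0, 0, 0, 0, 0, 0, 0, 0, 0, 0, 0, 0, 0, 0, 0, 0, 0, 0, 0, 0, 0, 0],
  [0, 0, 0, -4, 0, 0, 0, 0, 0, 0, 0, 0, 0, 0, 0, 0, 0, 0, 0, 0, 0, 0, 0, 0, 0, 0, 0, 0, 0, 0, 0, 0, 0, 0, 0, 0, 0, 0, 0, 0, 0, 0, 0, 0, 0, 0, 0, 0, 0, 0, 0, 0, 0, 0, 0, 0],
  [0, 0, 0, 0, -2, 0, 0, -2, 0, 0, 0, 0, 0, 0, 0, 0, 0, 0, 0, 0, 0, -2, -2, 0, 0, -2, 0, -2, 0, 0, 0, 0, 0, 0, 0, 0, 0, 0, 0, 0, 0, 0, 0, 0, 0, 0, 0, 0, 0, 0, 0, 0, 0, 0, 0, 0],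
  [0, 0, 0, 0, 0, -2, 0, -2, 0, 0, 0, 0, 0, 0, 0, 0, 0, 0, 0, 0, 0, 0, -2, -2, -2, 0, -2, 0, 0, 0, 0, 0, 0, 0, 0, 0, 0, 0, 0, 0, 0, 0, 0, 0, 0, 0, 0, 0, 0, 0, 0, 0, 0, 0, 0, 0],
  [0, 0, 0, 0, 0, 0, -2, -2, 0, 0, 0, 0, 0, 0, 0, 0, 0, 0, 0, 0, -2, -2, -2, -2, -2, 0, 0, -2, 0, 0, 0, 0, 0, 0, 0, 0, 0, 0, 0, 0, 0, 0, 0, 0, 0, 0, 0, 0, 0, 0, 0, 0, 0, 0, 0, 0],
  [0, 0, 0, 0, 0, 0, 0, -4, 0, 0, 0, 0, 0, 0, 0, 0, 0, 0, 0, 0, 0, 0, 0, 0, 0, 0, 0, 0, 0, 0, 0, 0, 0, 0, 0, 0, 0, 0, 0, 0, 0, 0, 0, 0, 0, 0, 0, 0, 0, 0, 0, 0, 0, 0, 0, 0],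
  [0, 0, 0, 0, 0, 0, 0, 0, -2, 0, 0, -2, 0, 0, 0, 0, 0, 0, -2, -2, -2, 0, -2, 0, 0, -2, -2, 0, 0, 0, 0, 0, 0, 0, 0, 0, 0, 0, 0, 0, 0, 0, 0, 0, 0, 0, 0, 0, 0, 0, 0, 0, 0, 0, 0, 0],
  [0, 0, 0, 0, 0, 0, 0, 0, 0, -2, 0, -2, 0, 0, 0, 0, -2, 0, 0, -2, -2, -2, 0, 0, 0, 0, -2, -2, 0, 0, 0, 0, 0, 0, 0, 0, 0, 0, 0, 0, 0, 0, 0, 0, 0, 0, 0, 0, 0, 0, 0, 0, 0, 0, 0, 0],
  [0, 0, 0, 0, 0, 0, 0, 0, 0, 0, -2, -2, 0, 0, 0, 0, 0, -2, -2, 0, 0, -2, 0, -2, -2, -2, -2, -2, 0, 0, 0, 0, 0, 0, 0, 0, 0, 0, 0, 0, 0, 0, 0, 0, 0, 0, 0, 0, 0, 0, 0, 0, 0, 0, 0, 0],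
  [0, 0, 0, 0, 0, 0, 0, 0, 0, 0, 0, -4, 0, 0, 0, 0, 0, 0, 0, 0, 0, 0, 0, 0, 0, 0, 0, 0, 0, 0, 0, 0, 0, 0, 0, 0, 0, 0, 0, 0, 0, 0, 0, 0, 0, 0, 0, 0, 0, 0, 0, 0, 0, 0, 0, 0],
  [0, 0, 0, 0, 0, 0, 0, 0, 0, 0, 0, 0, -2, 0, 0, -2, -2, -2, 0, 0, 0, 0, 0, 0, -2, 0, -2, 0, 0, 0, 0, 0, 0, 0, 0, 0, 0, 0, 0, 0, 0, 0, 0, 0, 0, 0, 0, 0, 0, 0, 0, 0, 0, 0, 0, 0],
  [0, 0, 0, 0, 0, 0, 0, 0, 0, 0, 0, 0, 0, -2, 0, -2, -2, -2, -2, -2, 0, 0, 0, 0, -2, -2, 0, 0, 0, 0, 0, 0, 0, 0, 0, 0, 0, 0, 0, 0, 0, 0, 0, 0, 0, 0, 0, 0, 0, 0, 0, 0, 0, 0, 0, 0],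
  [0, 0, 0, 0, 0, 0, 0, 0, 0, 0, 0, 0, 0, 0, -2, -2, -2, 0, -2, 0, 0, 0, 0, 0, 0, -2, 0, -2, 0, 0, 0, 0, 0, 0, 0, 0, 0, 0, 0, 0, 0, 0, 0, 0, 0, 0, 0, 0, 0, 0, 0, 0, 0, 0, 0, 0],
  [0, 0, 0, 0, 0, 0, 0, 0, 0, 0, 0, 0, 0, 0, 0, -4, 0, 0, 0, 0, 0, 0, 0, 0, 0, 0, 0, 0, 0, 0, 0, 0, 0, 0, 0, 0, 0, 0, 0, 0, 0, 0, 0, 0, 0, 0, 0, 0, 0, 0, 0, 0, 0, 0, 0, 0],
  [0, 0, 0, 0, 0, 0, 0, 0, 0, 0, 0, 0, 0, 0, 0, 0, -4, 0, 0, 0, 0, 0, 0, 0, 0, 0, 0, 0, 0, 0, 0, 0, 0, 0, 0, 0, 0, 0, 0, 0, 0, 0, 0, 0, 0, 0, 0, 0, 0, 0, 0, 0, 0, 0, 0, 0],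
  [0, 0, 0, 0, 0, 0, 0, 0, 0, 0, 0, 0, 0, 0, 0, 0, 0, -4, 0, 0, 0, 0, 0, 0, 0, 0, 0, 0, 0, 0, 0, 0, 0, 0, 0, 0, 0, 0, 0, 0, 0, 0, 0, 0, 0, 0, 0, 0, 0, 0, 0, 0, 0, 0, 0, 0],
  [0, 0, 0, 0, 0, 0, 0, 0, 0, 0, 0, 0, 0, 0, 0, 0, 0, 0, -4, 0, 0, 0, 0, 0, 0, 0, 0, 0, 0, 0, 0, 0, 0, 0, 0, 0, 0, 0, 0, 0, 0, 0, 0, 0, 0, 0, 0, 0, 0, 0, 0, 0, 0, 0, 0, 0],
  [0, 0, 0, 0, 0, 0, 0, 0, 0, 0, 0, 0, 0, 0, 0, 0, 0, 0, 0, -4, 0, 0, 0, 0, 0, 0, 0, 0, 0, 0, 0, 0, 0, 0, 0, 0, 0, 0, 0, 0, 0, 0, 0, 0, 0, 0, 0, 0, 0, 0, 0, 0, 0, 0, 0, 0],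
  [0, 0, 0, 0, 0, 0, 0, 0, 0, 0, 0, 0, 0, 0, 0, 0, 0, 0, 0, 0, -4, 0, 0, 0, 0, 0, 0, 0, 0, 0, 0, 0, 0, 0, 0, 0, 0, 0, 0, 0, 0, 0, 0, 0, 0, 0, 0, 0, 0, 0, 0, 0, 0, 0, 0, 0],
  [0, 0, 0, 0, 0, 0, 0, 0, 0, 0, 0, 0, 0, 0, 0, 0, 0, 0, 0, 0, 0, -4, 0, 0, 0, 0, 0, 0, 0, 0, 0, 0, 0, 0, 0, 0, 0, 0, 0, 0, 0, 0, 0, 0, 0, 0, 0, 0, 0, 0, 0, 0, 0, 0, 0, 0],
  [0, 0, 0, 0, 0, 0, 0, 0, 0, 0, 0, 0, 0, 0, 0, 0, 0, 0, 0, 0, 0, 0, -4, 0, 0, 0, 0, 0, 0, 0, 0, 0, 0, 0, 0, 0, 0, 0, 0, 0, 0, 0, 0, 0, 0, 0, 0, 0, 0, 0, 0, 0, 0, 0, 0, 0],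
  [0, 0, 0, 0, 0, 0, 0, 0, 0, 0, 0, 0, 0, 0, 0, 0, 0, 0, 0, 0, 0, 0, 0, -4, 0, 0, 0, 0, 0, 0, 0, 0, 0, 0, 0, 0, 0, 0, 0, 0, 0, 0, 0, 0, 0, 0, 0, 0, 0, 0, 0, 0, 0, 0, 0, 0],
  [0, 0, 0, 0, 0, 0, 0, 0, 0, 0, 0, 0, 0, 0, 0, 0, 0, 0, 0, 0, 0, 0, 0, 0, -4, 0, 0, 0, 0, 0, 0, 0, 0, 0, 0, 0, 0, 0, 0, 0, 0, 0, 0, 0, 0, 0, 0, 0, 0, 0, 0, 0, 0, 0, 0, 0],
  [0, 0, 0, 0, 0, 0, 0, 0, 0, 0, 0, 0, 0, 0, 0, 0, 0, 0, 0, 0, 0, 0, 0, 0, 0, -4, 0, 0, 0, 0, 0, 0, 0, 0, 0, 0, 0, 0, 0, 0, 0, 0, 0, 0, 0, 0, 0, 0, 0, 0, 0, 0, 0, 0, 0, 0],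
  [0, 0, 0, 0, 0, 0, 0, 0, 0, 0, 0, 0, 0, 0, 0, 0, 0, 0, 0, 0, 0, 0, 0, 0, 0, 0, -4, 0, 0, 0, 0, 0, 0, 0, 0, 0, 0, 0, 0, 0, 0, 0, 0, 0, 0, 0, 0, 0, 0, 0, 0, 0, 0, 0, 0, 0],
  [0, 0, 0, 0, 0, 0, 0, 0, 0, 0, 0, 0, 0, 0, 0, 0, 0, 0, 0, 0, 0, 0, 0, 0, 0, 0, 0, -4, 0, 0, 0, 0, 0, 0, 0, 0, 0, 0, 0, 0, 0, 0, 0, 0, 0, 0, 0, 0, 0, 0, 0, 0, 0, 0, 0, 0]]

/-- The images of the basis in the basis. -/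
def combRj : List (List (ℕ × ℤ)) := [
  [(4, -1), (8, -1), (9, -1), (12, -1), (13, 1), (14, 1), (16, 1), (18, 1), (22, 1), (23, 1), (24, -1), (26, -1), (27, -1), (29, 1), (30, -1), (31, 1), (35, 1), (37, 1), (38, 2), (41, 1), (42, 2), (43, -2), (44, -1), (45, -2), (46, -3), (47, -2), (48, -1), (49, -2), (50, 1), (51, -2), (52, -3), (53, -3), (54, -3), (55, -3)],
  [(4, -1), (8, -1), (14, 1), (17, 1), (18, 1), (22, 1), (24, -2), (26, -1), (27, -1), (28, 1), (30, -1), (31, 1), (34, 2), (37, 1), (39, 2), (41, 1), (42, 1), (43, -1), (44, -1), (45, -1), (46, -2), (47, -3), (48, -2), (49, -1), (51, -1), (52, -2), (53, -1), (55, -3)],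
  [(3, -1), (9, -1), (14, 1), (16, 1), (17, -1), (21, 1), (22, 1), (23, 1), (24, 1), (27, -1), (30, -1), (31, -1), (32, 1), (34, 1), (35, -2), (36, 1), (37, 1), (38, 2), (39, -3), (41, 1), (42, 1), (43, -2), (44, -1), (45, -1), (46, -3), (47, -1), (48, -3), (49, -4), (50, -2), (51, -4), (52, -4), (53, -4), (54, -4), (55, -3)],
  [(2, 1), (5, -1), (8, -1), (9, -1), (12, -1), (13, 1), (14, 1), (16, -2), (17, 2), (18, 2), (19, 2), (20, -1), (21, 1), (22, 2), (24, -1), (25, -2), (26, -1), (27, -4), (30, -1), (31, 3), (32, 1), (35, 2), (37, 1), (38, 1), (39, 2), (40, 1), (41, 1), (42, 1), (44, -2), (45, -4), (46, -4), (47, -2), (48, 1), (49, -2), (50, 2), (51, -2), (52, -2), (53, -2), (54, -2), (55, -3)],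
  [(4, -1), (12, -1), (13, 1), (14, 1), (16, -1), (18, 1), (22, 1), (25, -1), (27, -1), (31, 1), (33, 1), (34, 1), (38, 1), (39, 1), (40, 1), (41, 1), (42, 1), (43, -2), (44, -1), (45, -2), (46, -2), (47, -2), (49, -1), (51, -1), (52, -2), (53, -1), (54, -2), (55, -3)],
  [(5, -1), (14, 1), (16, 1), (17, -1), (20, 1), (21, -1), (23, -1), (25, 1), (26, 2), (27, 1), (31, -1), (32, 1), (35, -2), (38, 1), (39, -1), (40, 1), (43, -2), (45, -1), (46, -1), (47, -1), (48, 1), (49, -1), (51, -1), (53, -1), (54, -1), (55, -1)],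
  [(4, -1), (5, -1), (7, -1), (13, 1), (14, 1), (15, 1), (16, 1), (17, 1), (18, 1), (20, -2), (21, 1), (22, 3), (23, 1), (24, -2), (25, -1), (26, -2), (27, -2), (30, 2), (31, 2), (33, 1), (37, -1), (39, 2), (40, 1), (44, 1), (45, -1), (46, 1), (47, -2), (48, -1), (50, -1), (51, -1), (52, -1), (54, -3)],
  [(4, -1), (5, -1), (6, 1), (12, -1), (13, 1), (14, 2), (15, 1), (16, 1), (17, -1), (19, -1), (20, -1), (21, 1), (22, 1), (24, -2), (25, 1), (26, 1), (31, 1), (34, 1), (35, 1), (39, 2), (40, 1), (41, 1), (42, 1), (43, -2), (44, 2), (47, -2), (48, -1), (51, -1), (52, -1), (53, -2), (54, -1)],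
  [(8, -1), (16, -1), (18, 1), (20, 1), (21, -1), (23, -1), (27, 1), (37, 1), (38, 1), (39, -1), (42, 1), (44, -1), (45, -1), (46, -2), (47, -1), (48, 1), (49, -1), (50, 1), (52, 1), (54, -1), (55, -2)],
  [(9, -1), (18, 1), (20, 1), (21, -1), (24, -1), (26, 1), (27, 1), (30, 2), (31, 1), (32, -1), (34, -1), (36, 1), (37, -1), (38, -1), (39, -1), (41, -1), (42, 1), (43, 1), (45, 1), (47, -1), (48, 2), (49, 2), (51, 2), (52, 2), (53, 2), (54, -1), (55, 1)],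
  [(8, -1), (9, -1), (11, -1), (17, 2), (18, 1), (19, 1), (20, -1), (21, 2), (22, 2), (23, 1), (24, -2), (25, -1), (26, -2), (27, -3), (30, 2), (31, 3), (32, -1), (35, 1), (36, 1), (41, -1), (42, 1), (43, 3), (46, -1), (47, -1), (48, -1), (50, -1), (54, -3), (55, -1)],
  [(8, -1), (9, -1), (10, 1), (16, 1), (18, 1), (20, -1), (22, 1), (24, -1), (30, 2), (31, 1), (32, -1), (34, -1), (37, -1), (41, -1), (43, 2), (44, 2), (45, 1), (46, 2), (48, 2), (49, 1), (50, 1), (52, 2), (53, 1), (54, -2), (55, 1)],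
  [(12, -1), (14, 1), (16, -2), (18, 1), (19, 1), (20, -2), (22, 1), (23, 1), (25, -2), (26, -1), (27, -2), (30, 2), (31, 3), (32, -1), (35, 2), (37, -1), (39, 2), (40, 1), (42, 1), (43, 1), (45, -1), (48, 2), (49, 1), (50, 1), (51, 1), (52, 1), (53, 1)],
  [(16, -2), (17, 1), (18, 1), (19, 1), (25, -2), (27, -1), (31, 1), (35, 1), (39, 1), (40, 1), (42, 1), (44, -2), (45, -2), (46, -2), (47, -1), (48, 1), (50, 1), (51, 1), (55, -2)],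
  [(15, -1), (26, 1), (42, 1)],
  [(14, 1), (17, -1), (24, -2), (25, 1), (26, 1), (31, 1), (35, 1), (39, 1), (42, 1), (44, 1), (49, 1), (50, 1), (51, 1), (52, 1), (54, 1)],
  [(16, 1), (17, -1), (19, -1), (21, -1), (24, -2), (25, 1), (26, 1), (27, 2), (30, 2), (31, 1), (32, -1), (37, -1), (41, -1), (42, 1), (43, 1), (44, 2), (45, 2), (46, 2), (47, 1), (48, 1), (49, 2), (50, 1), (51, 1), (52, 2), (53, 2), (55, 1)],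
  [(17, -1), (26, 1), (44, 1), (46, 1), (52, 1)],
  [(16, -2), (18, 1), (25, -1), (31, 1), (35, 1), (39, 1), (43, 1), (45, -1), (48, 1), (50, 1), (51, 1), (52, 1), (53, 1), (54, 1), (55, -1)],
  [(16, -2), (18, 2), (19, 1), (24, -2), (25, -1), (26, 1), (31, 2), (35, 2), (39, 2), (43, 2), (45, -2), (46, -1), (47, -1), (48, 1), (49, 1), (50, 2), (51, 2), (52, 1), (53, 1), (54, 1), (55, -1)],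
  [(17, -1), (20, -1), (22, 1), (30, 2), (31, 1), (32, -1), (37, -1), (41, -1), (42, 1), (43, 1), (44, 1), (45, 1), (46, 2), (47, 1), (48, 1), (49, 1), (52, 2), (53, 1)],
  [(21, -1), (24, -2), (26, 1), (27, 1), (31, 1), (35, 1), (39, 1), (43, 1), (44, 1), (48, 1), (49, 1), (50, 2), (51, 1), (52, 1), (53, 1), (54, 1)],
  [(20, -2), (22, 1), (27, -1), (31, 1), (35, 1), (39, 1), (43, 1), (44, 1), (46, 1), (47, 1), (50, 1), (52, 1), (54, 1)],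
  [(20, -2), (22, 2), (23, 1), (25, -1), (26, -1), (27, -2), (31, 1), (35, 1), (39, 1), (43, 1), (44, 1), (46, 1), (47, 1), (48, -1), (49, -1), (51, -1), (52, 1)],
  [(17, -1), (20, -2), (21, 1), (22, 1), (23, 1), (24, -1), (27, -1), (30, 2), (31, 2), (32, -1), (35, 1), (37, -1), (39, 1), (41, -1), (42, 1), (43, 2), (44, 2), (45, 1), (46, 2), (47, 2), (49, 1), (52, 2), (53, 1), (55, 1)],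
  [(52, 1)],
  [(27, -1)],
  [(26, 1)],
  [(1, -1), (4, -1), (5, -1), (13, 1), (14, 1), (15, 1), (16, -1), (18, 1), (19, 1), (20, 1), (22, 1), (24, -1), (25, -1), (27, -1), (30, -1), (32, 1), (33, 1), (34, 3), (35, -1), (37, 1), (39, 1), (40, 1), (41, 1), (42, 2), (43, -3), (44, -3), (45, -3), (46, -3), (47, -3), (48, -2), (49, -3), (50, -1), (51, -2), (52, -3), (53, -2), (54, -1), (55, -5)],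
  [(0, -1), (4, -1), (5, -1), (9, -1), (12, -1), (13, 1), (14, 2), (15, 1), (16, -2), (17, 1), (18, 2), (19, 2), (21, 1), (22, 1), (23, 1), (24, -1), (25, -3), (26, -1), (27, -3), (30, -1), (31, 2), (32, 1), (33, 1), (34, 2), (36, 1), (37, 1), (38, 1), (39, 2), (40, 1), (41, 2), (42, 2), (43, -2), (44, -3), (45, -5), (46, -6), (47, -5), (48, -1), (49, -3), (50, -1), (51, -1), (52, -5), (53, -4), (54, -3), (55, -6)],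
  [(5, -1), (8, -1), (12, -1), (13, 1), (14, 1), (15, 1), (16, 1), (21, 1), (22, 1), (24, 1), (26, -1), (27, -2), (30, -1), (31, -1), (32, 1), (34, 2), (35, -2), (37, 1), (38, 2), (39, -1), (40, 1), (41, 1), (43, -3), (44, -1), (45, -2), (46, -2), (47, -2), (48, -2), (49, -4), (50, -2), (51, -5), (52, -4), (53, -4), (54, -4), (55, -4)],
  [(30, 4), (31, 1), (32, -2), (34, -2), (37, -2), (38, -2), (41, -2), (43, 2), (44, 1), (45, 3), (46, 3), (47, 1), (48, 3), (49, 4), (51, 3), (52, 4), (53, 4), (55, 4)],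
  [(5, -2), (13, 1), (14, 1), (15, 1), (17, 1), (19, 1), (20, -2), (21, 2), (22, 2), (23, 1), (24, -2), (25, -1), (26, -1), (27, -3), (31, 2), (32, 1), (34, 2), (39, 3), (40, 1), (44, 1), (45, -2), (46, -1), (47, -1), (48, -2), (49, -2), (50, -1), (51, -2), (52, -2), (53, -2), (54, -1), (55, -1)],
  [(4, -2), (13, 1), (14, 1), (18, 1), (22, 1), (23, 1), (25, -1), (26, -1), (27, -1), (33, 1), (34, 2), (35, -1), (39, 1), (41, 1), (42, 1), (43, -2), (44, -1), (45, -1), (46, -1), (47, -2), (48, -2), (49, -2), (50, -2), (51, -2), (52, -3), (53, -1), (54, -1), (55, -3)],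
  [(20, -2), (22, 1), (23, 1), (25, -1), (26, -1), (27, -1), (31, 1), (34, 1), (39, 1), (43, 1), (44, 1), (46, 1), (47, 1), (48, -1), (49, -1), (51, -1), (54, 1)],
  [(34, 2), (35, -1), (48, -1), (49, -1), (50, -1), (51, -1), (52, -1), (55, -1)],
  [(9, -2), (17, 1), (18, 1), (19, 1), (23, 1), (24, -2), (25, -1), (31, 2), (35, 1), (36, 1), (38, 2), (39, -1), (43, 2), (45, -2), (46, -2), (47, -2), (49, -1), (51, -1), (52, -2), (53, -1), (54, -2), (55, -2)],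
  [(8, -2), (18, 1), (20, -2), (22, 2), (23, 1), (26, -2), (27, -2), (31, 1), (35, 1), (37, 1), (38, 2), (43, 2), (44, 1), (45, -1), (48, -1), (49, -3), (51, -2), (53, -1), (54, -2), (55, -2)],
  [(16, -2), (17, 1), (18, 1), (19, 1), (20, -2), (21, 1), (22, 1), (23, 1), (24, -2), (25, -2), (26, -1), (27, -2), (31, 3), (35, 3), (38, 1), (39, 2), (43, 3), (44, 1), (45, -2), (46, -1), (50, 2), (51, 1), (54, 1), (55, -1)],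
  [(38, 2), (39, -1), (45, -1), (46, -1), (49, -1), (51, -1), (52, -1), (53, -1), (54, -1), (55, -1)],
  [(13, -1), (16, -2), (18, 1), (19, 1), (25, -1), (31, 1), (35, 1), (39, 1), (42, 1), (43, 1), (44, -1), (45, -1), (46, -1), (48, 1), (50, 1), (51, 1), (52, 1), (54, 1), (55, -2)],
  [(12, -2), (13, 1), (14, 1), (15, 1), (16, -2), (18, 1), (19, 1), (24, -2), (25, -2), (27, -1), (31, 3), (35, 3), (39, 3), (40, 1), (41, 1), (42, 2), (43, -1), (44, -1), (45, -2), (46, -2), (47, -2), (48, 2), (49, 2), (50, 3), (51, 2), (53, -1), (55, -2)],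
  [(17, -1), (24, -2), (25, 1), (26, 1), (27, 1), (31, 1), (35, 1), (39, 1), (42, 1), (44, 1), (49, 1), (50, 1), (51, 1), (52, 1), (54, 1)],
  [(42, 2), (43, -1), (44, -1), (46, -1), (53, -1), (55, -1)],
  [(17, -2), (25, 1), (26, 1), (27, 1), (44, 1), (46, 1), (47, 1), (52, 1)],
  [(16, -4), (17, 2), (18, 2), (19, 2), (25, -3), (26, -1), (27, -2), (31, 2), (35, 2), (39, 2), (43, 2), (44, -2), (45, -3), (46, -3), (47, -1), (48, 2), (50, 2), (51, 2), (53, 1), (54, 1), (55, -2)],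
  [(47, -1)],
  [(46, 1)],
  [(21, -2), (27, 1), (48, 1), (50, 1), (51, 1), (52, 1), (53, 1), (54, 1)],
  [(20, -4), (21, 2), (22, 2), (23, 2), (25, -1), (26, -2), (27, -3), (31, 2), (35, 2), (39, 2), (43, 2), (44, 2), (46, 2), (47, 2), (48, -2), (49, -1), (50, -1), (51, -1), (53, -1), (55, 1)],
  [(51, -1)],
  [(50, 1)],
  [(25, -1)],
  [(24, -4), (25, 1), (26, 1), (27, 1), (31, 2), (35, 2), (39, 2), (43, 2), (44, 2), (49, 2), (50, 2), (51, 2), (52, 1), (53, 1), (54, 1), (55, 1)],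
  [(55, -1)],
  [(54, 1)]]

/-- The images of the basis. -/
def imgRj : List (List ℤ) := [
  [0, 0, 0, 0, -1, 0, 0, 0, -1, -1, 0, 0, -1, 0, 0, -1, 1, -1, 0, 0, 0, -1, 0, 0, -1, 0, -1, 0, 0, 1, -1, 0, 0, 0, -1, 0, 0, 0, 1, -1, 0, 0, 2, 0, 0, 0, 0, 0, 1, 0, 2, 0, 0, 0, 0, 0],
  [0, 0, 0, 0, -1, 0, 0, 0, -1, 0, 0, 0, 0, -1, 1, 0, 0, 1, 0, 0, 0, 0, 0, -1, -2, -2, -1, -1, 1, 0, -1, 0, 0, 0, 2, -1, 0, 0, -1, 0, 1, 0, 2, -1, 0, 0, 1, -2, 0, 0, 1, -2, 0, 0, 2, -2],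
  [0, 0, 0, -1, 0, 0, 0, 0, 0, -1, 0, 0, 0, -1, 1, 0, 1, -2, 0, 0, 0, 1, 1, 0, 1, -1, 2, -1, 0, 0, -1, 0, 0, 0, 1, -1, 0, 0, 2, -1, 0, 0, 2, 0, 0, 0, -1, 0, 1, 0, 2, -1, 1, 0, -1, 1],
  [0, 0, 1, 0, 0, -1, 0, 0, -1, -1, 0, 0, -1, 0, 0, -1, -2, -1, 0, 0, -1, 0, 1, -1, -1, 1, 2, 0, 0, 0, -1, 0, 0, 0, -1, 0, 0, 0, 0, 0, 1, 0, 1, 0, 0, 0, 2, 1, 0, 0, 1, -2, 1, 0, 2, 1],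
  [0, 0, 0, 0, -1, 0, 0, 0, 0, 0, 0, 0, -1, 0, 0, -1, -1, -1, 0, -1, 0, 0, 1, -1, 0, -2, 2, 0, 0, 0, 0, 0, 0, 1, 1, -1, 0, 0, 2, 0, 1, 0, 0, -1, 0, 0, -1, -2, 0, 0, 1, 1, 2, 0, 0, -2],
  [0, 0, 0, 0, 0, -1, 0, 0, 0, 0, 0, 0, 0, -1, 1, -1, 1, -2, 1, 0, 1, -2, 0, -1, 0, -2, 2, -2, 0, 0, 0, 0, 1, 0, -1, -1, 0, 0, 2, 0, 1, 0, 0, 0, 1, 0, -1, 0, 1, 0, 0, -1, 2, 0, 2, 0],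
  [0, 0, 0, 0, -1, -1, 0, -1, 0, 0, 0, 0, 0, -1, 0, 0, 1, 1, 1, 0, -2, -1, 1, -1, -2, -2, 0, 0, 0, 0, 2, 0, 0, 0, -1, 0, 0, 0, 2, 0, 1, 0, -1, -1, 0, 0, 2, -1, 1, 0, 2, 0, 0, 0, 0, -2],
  [0, 0, 0, 0, -1, -1, 1, 0, 0, 0, 0, 0, -1, 0, 1, 0, 1, -2, 0, -1, -1, 1, 0, -1, -2, -2, 2, 0, 0, 0, 0, 0, 0, 0, 0, -1, 0, 0, 0, 0, 1, 0, 1, 0, 1, 0, 0, 1, 0, 0, -1, 0, 2, 0, 2, 0],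
  [0, 0, 0, 0, 0, 0, 0, 0, -1, 0, 0, 0, 0, 0, 0, 0, -1, -2, 0, -1, 1, -1, 0, -1, 0, -2, -1, 1, 0, 0, 0, 0, 0, 0, 0, 0, 0, 1, 1, -1, 0, 0, 2, 0, 1, 0, 0, 1, 0, 0, -1, 0, 2, 0, 1, 1],
  [0, 0, 0, 0, 0, 0, 0, 0, 0, -1, 0, 0, 0, 0, 0, 0, 0, -1, 1, -1, 1, -2, 1, 0, -1, 0, 2, -1, 0, 0, 2, 0, 0, 0, 0, 0, 1, 0, -1, -1, 0, 0, 2, 0, 1, 0, 0, 0, 1, 0, -1, 0, 1, 0, 0, 1],
  [0, 0, 0, 0, 0, 0, 0, 0, -1, -1, 0, -1, 0, 0, 0, 0, 0, 1, 0, 0, -1, 1, 1, 0, -2, -1, 1, -1, 0, 0, 2, 0, 0, 0, 2, 0, 0, 0, -1, 0, 0, 0, 2, 0, 1, 0, -1, 1, 0, 0, 2, 1, 1, 0, 2, 0],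
  [0, 0, 0, 0, 0, 0, 0, 0, -1, -1, 1, 0, 0, 0, 0, 0, 1, 0, 1, 0, -1, -2, 0, -1, -1, -1, 2, 1, 0, 0, 2, 0, 0, 0, 0, 0, 0, 0, 0, -1, 0, 0, 0, 0, 1, 0, 1, -2, 1, 0, 2, 1, 2, 0, -1, 0],
  [0, 0, 0, 0, 0, 0, 0, 0, 0, 0, 0, 0, -1, -1, 1, -1, -2, -2, 0, 0, -2, -2, 0, 0, 0, -2, 0, 0, 0, 0, 2, 0, 0, 0, 2, 0, 0, 0, 2, 0, 1, 1, 1, -1, 0, 0, 0, -2, 0, 0, 0, -2, 0, 0, 0, 0],
  [0, 0, 0, 0, 0, 0, 0, 0, 0, 0, 0, 0, 0, 0, 0, 0, -2, 0, 0, 0, 0, 0, 0, 0, 0, -2, 2, 0, 0, 0, 0, 0, 0, 0, 0, 0, 0, 0, 0, 0, 2, 0, 2, 0, 0, 0, 0, -2, 0, 0, 0, 0, 2, 0, 0, -2],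
  [0, 0, 0, 0, 0, 0, 0, 0, 0, 0, 0, 0, 0, 0, 0, -2, 0, 0, 0, 0, 0, 0, 0, 0, 0, -2, 2, 0, 0, 0, 0, 0, 0, 0, 0, 0, 0, 0, 0, 0, 0, 0, 2, 0, 0, 0, 2, -2, 0, 0, 0, 0, 0, 0, 0, 0],
  [0, 0, 0, 0, 0, 0, 0, 0, 0, 0, 0, 0, 0, 0, 2, 0, 0, -2, 0, 0, 0, 0, 0, 0, -2, 0, 0, -2, 0, 0, 0, 0, 0, 0, 0, 0, 0, 0, 0, 0, 0, 0, 2, 0, 0, 0, 2, 0, 0, 0, 0, 0, 2, 0, 2, 0],
  [0, 0, 0, 0, 0, 0, 0, 0, 0, 0, 0, 0, 0, 0, 0, 0, 1, -1, 1, -1, 0, -2, 0, 0, -2, -2, 0, 0, 0, 0, 2, 0, 0, 0, 2, 0, 0, 0, 2, 0, 0, 0, 2, 0, 1, 1, 1, 1, 0, 0, 2, -2, 0, 0, 0, -2],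
  [0, 0, 0, 0, 0, 0, 0, 0, 0, 0, 0, 0, 0, 0, 0, 0, 0, -2, 0, 0, 0, 0, 0, 0, 0, -2, 2, -2, 0, 0, 0, 0, 0, 0, 0, 0, 0, 0, 0, 0, 0, 0, 0, 0, 2, 0, 2, -2, 0, 0, 0, 0, 2, 0, 0, 0],
  [0, 0, 0, 0, 0, 0, 0, 0, 0, 0, 0, 0, 0, 0, 0, 0, -2, -2, 0, -2, 0, 0, 0, 0, 0, -2, 0, 0, 0, 0, 0, 0, 0, 0, 0, 0, 0, 0, 0, 0, 0, 0, 0, 0, 0, 0, 2, 0, 0, 0, 0, 0, 2, 0, 2, -2],
  [0, 0, 0, 0, 0, 0, 0, 0, 0, 0, 0, 0, 0, 0, 0, 0, -2, -2, 2, 0, 0, 0, 0, 0, -2, 0, 2, 0, 0, 0, 0, 0, 0, 0, 0, 0, 0, 0, 0, 0, 0, 0, 0, 0, 0, 0, 0, -2, 0, 0, 0, 0, 2, 0, 2, 0],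
  [0, 0, 0, 0, 0, 0, 0, 0, 0, 0, 0, 0, 0, 0, 0, 0, 0, -2, 0, 0, -1, -1, 1, -1, 0, -2, 0, 0, 0, 0, 2, 0, 0, 0, 2, 0, 0, 0, 2, 0, 0, 0, 2, 0, 0, 0, 2, -2, 1, 1, 1, -1, 0, 0, 2, -2],
  [0, 0, 0, 0, 0, 0, 0, 0, 0, 0, 0, 0, 0, 0, 0, 0, 0, 0, 0, 0, 0, -2, 0, 0, -2, -2, 2, 0, 0, 0, 0, 0, 0, 0, 0, 0, 0, 0, 0, 0, 0, 0, 0, 0, 0, 0, 0, 0, 2, 0, 2, -2, 0, 0, 0, -2],
  [0, 0, 0, 0, 0, 0, 0, 0, 0, 0, 0, 0, 0, 0, 0, 0, 0, 0, 0, 0, -2, -2, 0, -2, 0, 0, 2, -2, 0, 0, 0, 0, 0, 0, 0, 0, 0, 0, 0, 0, 0, 0, 0, 0, 0, 0, 0, 0, 0, 0, 2, 0, 0, 0, 2, -2],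
  [0, 0, 0, 0, 0, 0, 0, 0, 0, 0, 0, 0, 0, 0, 0, 0, 0, 0, 0, 0, -2, -2, 2, 0, 0, -2, 2, -2, 0, 0, 0, 0, 0, 0, 0, 0, 0, 0, 0, 0, 0, 0, 0, 0, 0, 0, 0, 0, 0, 0, 0, -2, 2, 0, 0, 0],
  [0, 0, 0, 0, 0, 0, 0, 0, 0, 0, 0, 0, 0, 0, 0, 0, 0, -2, 0, 0, -2, 0, 0, 0, -1, -1, 1, -1, 0, 0, 2, 0, 0, 0, 2, 0, 0, 0, 2, 0, 0, 0, 2, 0, 0, 0, 0, 0, 0, 0, 2, -2, 1, 1, 1, -1],
  [0, 0, 0, 0, 0, 0, 0, 0, 0, 0, 0, 0, 0, 0, 0, 0, 0, 0, 0, 0, 0, 0, 0, 0, 0, 0, 0, 0, 0, 0, 0, 0, 0, 0, 0, 0, 0, 0, 0, 0, 0, 0, 0, 0, 0, 0, 0, 0, 0, 0, 0, 0, 4, 0, 0, 0],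
  [0, 0, 0, 0, 0, 0, 0, 0, 0, 0, 0, 0, 0, 0, 0, 0, 0, 0, 0, 0, 0, 0, 0, 0, 0, 0, 0, -4, 0, 0, 0, 0, 0, 0, 0, 0, 0, 0, 0, 0, 0, 0, 0, 0, 0, 0, 0, 0, 0, 0, 0, 0, 0, 0, 0, 0],
  [0, 0, 0, 0, 0, 0, 0, 0, 0, 0, 0, 0, 0, 0, 0, 0, 0, 0, 0, 0, 0, 0, 0, 0, 0, 0, 4, 0, 0, 0, 0, 0, 0, 0, 0, 0, 0, 0, 0, 0, 0, 0, 0, 0, 0, 0, 0, 0, 0, 0, 0, 0, 0, 0, 0, 0],
  [0, -1, 0, 0, -1, -1, 0, 0, 0, 0, 0, 0, 0, -1, 0, 0, -1, -2, 0, 0, 1, 0, 0, 0, -1, -1, 0, 0, 0, 0, -1, 0, 0, 0, 2, 0, 0, 0, -1, -1, 0, 0, 2, -1, 0, 0, 0, -1, 0, 0, -1, -2, 0, 0, 1, -1],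
  [-1, 0, 0, 0, -1, -1, 0, 0, 0, -1, 0, 0, -1, -1, 0, 0, -2, -2, 0, 0, 0, -1, 0, 0, -1, -2, 0, 0, 0, 0, -1, 0, 0, 0, 1, -1, 0, 0, -1, 0, 0, 0, 2, 0, 0, 0, -1, -1, 0, 0, 0, 1, 0, 0, 0, -1],
  [0, 0, 0, 0, 0, -1, 0, 0, -1, 0, 0, 0, -1, 0, 0, 0, 1, -1, 0, 0, 0, 1, 0, 0, 1, 1, 0, 0, 0, 0, -1, -1, 0, 0, 2, -1, 0, 0, 2, -1, 0, 0, -1, 0, 0, 0, 1, 1, 0, 0, -1, -2, 0, 0, 0, -2],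
  [0, 0, 0, 0, 0, 0, 0, 0, 0, 0, 0, 0, 0, 0, 0, 0, 0, 0, 0, 0, 0, 0, 0, 0, 0, 0, 0, 0, 0, 0, 4, 0, 0, 0, 0, 0, 0, 0, 0, 0, 0, 0, 0, 0, 0, 0, 0, 0, 0, 0, 0, 0, 0, 0, 0, 0],
  [0, 0, 0, 0, 0, -2, 0, 0, 0, 0, 0, 0, 0, 0, 0, 0, 0, 0, 0, 0, -2, 0, 0, 0, -2, 0, 0, 0, 0, 0, 0, 0, 0, 0, 2, 0, 0, 0, 0, 0, 0, 0, 0, 0, 0, 0, 0, 0, 0, 0, 0, -2, 0, 0, 2, 0],
  [0, 0, 0, 0, -2, 0, 0, 0, 0, 0, 0, 0, 0, 0, 0, 0, 0, 0, 0, 0, 0, 0, 0, 0, 0, -2, 0, 0, 0, 0, 0, 0, 0, 0, 2, 0, 0, 0, 0, 0, 0, 0, 0, 0, 0, 0, 0, 0, 0, 0, 2, -2, 0, 0, 0, -2],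
  [0, 0, 0, 0, 0, 0, 0, 0, 0, 0, 0, 0, 0, 0, 0, 0, 0, 0, 0, 0, -2, -2, 0, 0, 0, -2, 0, 0, 0, 0, 0, 0, 0, 0, 2, -2, 0, 0, 0, 0, 0, 0, 0, 0, 0, 0, 0, 0, 0, 0, 2, -2, 0, 0, 2, 0],
  [0, 0, 0, 0, 0, 0, 0, 0, 0, 0, 0, 0, 0, 0, 0, 0, 0, 0, 0, 0, 0, 0, 0, 0, 0, 0, 0, 0, 0, 0, 0, 0, 0, 0, 4, 0, 0, 0, 0, 0, 0, 0, 0, 0, 0, 0, 0, 0, 0, 0, 0, 0, 0, 0, 0, 0],
  [0, 0, 0, 0, 0, 0, 0, 0, 0, -2, 0, 0, 0, 0, 0, 0, 0, 0, 0, 0, 0, -2, 0, 0, -2, 0, 0, 0, 0, 0, 0, 0, 0, 0, 0, 0, 0, 0, 2, 0, 0, 0, 0, 0, 0, 0, 2, -2, 0, 0, 0, -2, 0, 0, 0, -2],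
  [0, 0, 0, 0, 0, 0, 0, 0, -2, 0, 0, 0, 0, 0, 0, 0, 0, -2, 0, 0, -2, -2, 0, 0, 0, 0, 0, 0, 0, 0, 0, 0, 0, 0, 0, 0, 0, 0, 2, 0, 0, 0, 0, 0, 0, 0, 2, 0, 0, 0, 0, 0, 0, 0, 2, -2],
  [0, 0, 0, 0, 0, 0, 0, 0, 0, 0, 0, 0, 0, 0, 0, 0, -2, 0, 0, 0, -2, 0, 0, 0, -2, -2, 0, 0, 0, 0, 0, 0, 0, 0, 0, 0, 0, 0, 2, -2, 0, 0, 0, 0, 0, 0, 0, -2, 0, 0, 2, 0, 0, 0, 2, -2],
  [0, 0, 0, 0, 0, 0, 0, 0, 0, 0, 0, 0, 0, 0, 0, 0, 0, 0, 0, 0, 0, 0, 0, 0, 0, 0, 0, 0, 0, 0, 0, 0, 0, 0, 0, 0, 0, 0, 4, 0, 0, 0, 0, 0, 0, 0, 0, 0, 0, 0, 0, 0, 0, 0, 0, 0],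
  [0, 0, 0, 0, 0, 0, 0, 0, 0, 0, 0, 0, 0, -2, 0, 0, -2, -2, 0, 0, 0, 0, 0, 0, 0, -2, 0, 0, 0, 0, 0, 0, 0, 0, 0, 0, 0, 0, 0, 0, 0, 0, 2, 0, 0, 0, 0, 0, 0, 0, 0, 0, 0, 0, 0, -2],
  [0, 0, 0, 0, 0, 0, 0, 0, 0, 0, 0, 0, -2, 0, 0, 0, -2, -2, 0, 0, 0, 0, 0, 0, -2, -2, 0, 0, 0, 0, 0, 0, 0, 0, 0, 0, 0, 0, 0, 0, 0, 0, 2, 0, 0, 0, 2, -2, 0, 0, 0, 0, 0, 0, 0, 0],
  [0, 0, 0, 0, 0, 0, 0, 0, 0, 0, 0, 0, 0, 0, 0, 0, 0, -2, 0, 0, 0, 0, 0, 0, -2, 0, 0, 0, 0, 0, 0, 0, 0, 0, 0, 0, 0, 0, 0, 0, 0, 0, 2, -2, 0, 0, 0, -2, 0, 0, 0, 0, 0, 0, 2, 0],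
  [0, 0, 0, 0, 0, 0, 0, 0, 0, 0, 0, 0, 0, 0, 0, 0, 0, 0, 0, 0, 0, 0, 0, 0, 0, 0, 0, 0, 0, 0, 0, 0, 0, 0, 0, 0, 0, 0, 0, 0, 0, 0, 4, 0, 0, 0, 0, 0, 0, 0, 0, 0, 0, 0, 0, 0],
  [0, 0, 0, 0, 0, 0, 0, 0, 0, 0, 0, 0, 0, 0, 0, 0, 0, -4, 0, 0, 0, 0, 0, 0, 0, 0, 0, 0, 0, 0, 0, 0, 0, 0, 0, 0, 0, 0, 0, 0, 0, 0, 0, 0, 0, 0, 0, 0, 0, 0, 0, 0, 0, 0, 0, 0],
  [0, 0, 0, 0, 0, 0, 0, 0, 0, 0, 0, 0, 0, 0, 0, 0, -4, 0, 0, 0, 0, 0, 0, 0, 0, 0, 0, 0, 0, 0, 0, 0, 0, 0, 0, 0, 0, 0, 0, 0, 0, 0, 0, 0, 0, 0, 0, 0, 0, 0, 0, 0, 0, 0, 0, 0],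
  [0, 0, 0, 0, 0, 0, 0, 0, 0, 0, 0, 0, 0, 0, 0, 0, 0, 0, 0, 0, 0, 0, 0, 0, 0, 0, 0, 0, 0, 0, 0, 0, 0, 0, 0, 0, 0, 0, 0, 0, 0, 0, 0, 0, 0, 0, 0, -4, 0, 0, 0, 0, 0, 0, 0, 0],
  [0, 0, 0, 0, 0, 0, 0, 0, 0, 0, 0, 0, 0, 0, 0, 0, 0, 0, 0, 0, 0, 0, 0, 0, 0, 0, 0, 0, 0, 0, 0, 0, 0, 0, 0, 0, 0, 0, 0, 0, 0, 0, 0, 0, 0, 0, 4, 0, 0, 0, 0, 0, 0, 0, 0, 0],
  [0, 0, 0, 0, 0, 0, 0, 0, 0, 0, 0, 0, 0, 0, 0, 0, 0, 0, 0, 0, 0, -4, 0, 0, 0, 0, 0, 0, 0, 0, 0, 0, 0, 0, 0, 0, 0, 0, 0, 0, 0, 0, 0, 0, 0, 0, 0, 0, 0, 0, 0, 0, 0, 0, 0, 0],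
  [0, 0, 0, 0, 0, 0, 0, 0, 0, 0, 0, 0, 0, 0, 0, 0, 0, 0, 0, 0, -4, 0, 0, 0, 0, 0, 0, 0, 0, 0, 0, 0, 0, 0, 0, 0, 0, 0, 0, 0, 0, 0, 0, 0, 0, 0, 0, 0, 0, 0, 0, 0, 0, 0, 0, 0],
  [0, 0, 0, 0, 0, 0, 0, 0, 0, 0, 0, 0, 0, 0, 0, 0, 0, 0, 0, 0, 0, 0, 0, 0, 0, 0, 0, 0, 0, 0, 0, 0, 0, 0, 0, 0, 0, 0, 0, 0, 0, 0, 0, 0, 0, 0, 0, 0, 0, 0, 0, -4, 0, 0, 0, 0],
  [0, 0, 0, 0, 0, 0, 0, 0, 0, 0, 0, 0, 0, 0, 0, 0, 0, 0, 0, 0, 0, 0, 0, 0, 0, 0, 0, 0, 0, 0, 0, 0, 0, 0, 0, 0, 0, 0, 0, 0, 0, 0, 0, 0, 0, 0, 0, 0, 0, 0, 4, 0, 0, 0, 0, 0],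
  [0, 0, 0, 0, 0, 0, 0, 0, 0, 0, 0, 0, 0, 0, 0, 0, 0, 0, 0, 0, 0, 0, 0, 0, 0, -4, 0, 0, 0, 0, 0, 0, 0, 0, 0, 0, 0, 0, 0, 0, 0, 0, 0, 0, 0, 0, 0, 0, 0, 0, 0, 0, 0, 0, 0, 0],
  [0, 0, 0, 0, 0, 0, 0, 0, 0, 0, 0, 0, 0, 0, 0, 0, 0, 0, 0, 0, 0, 0, 0, 0, -4, 0, 0, 0, 0, 0, 0, 0, 0, 0, 0, 0, 0, 0, 0, 0, 0, 0, 0, 0, 0, 0, 0, 0, 0, 0, 0, 0, 0, 0, 0, 0],
  [0, 0, 0, 0, 0, 0, 0, 0, 0, 0, 0, 0, 0, 0, 0, 0, 0, 0, 0, 0, 0, 0, 0, 0, 0, 0, 0, 0, 0, 0, 0, 0, 0, 0, 0, 0, 0, 0, 0, 0, 0, 0, 0, 0, 0, 0, 0, 0, 0, 0, 0, 0, 0, 0, 0, -4],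
  [0, 0, 0, 0, 0, 0, 0, 0, 0, 0, 0, 0, 0, 0, 0, 0, 0, 0, 0, 0, 0, 0, 0, 0, 0, 0, 0, 0, 0, 0, 0, 0, 0, 0, 0, 0, 0, 0, 0, 0, 0, 0, 0, 0, 0, 0, 0, 0, 0, 0, 0, 0, 0, 0, 4, 0]]

/-- The images of the basis in the basis. -/
def combRk : List (List (ℕ × ℤ)) := [
  [(8, -1), (10, -1), (17, 1), (23, 1), (26, -1), (27, -1), (29, 1), (30, 1), (31, 1), (32, -1), (34, -1), (35, 1), (41, -2), (43, 2), (45, 1), (51, 1), (52, 1), (53, 2), (54, -1), (55, 2)],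
  [(3, 1), (4, -1), (12, -1), (15, 1), (16, -2), (17, 1), (18, 2), (19, 1), (20, -2), (21, 1), (22, 1), (23, 1), (24, -2), (25, -2), (26, -2), (27, -2), (29, 1), (31, 4), (32, -1), (33, -1), (35, 5), (36, -1), (39, 5), (41, -1), (42, 1), (43, 2), (45, -2), (46, 1), (48, 1), (49, 1), (50, 3), (51, 2), (52, 2), (54, 2), (55, -1)],
  [(4, -1), (8, -1), (10, -1), (17, 1), (20, -1), (22, 2), (23, 2), (24, 1), (25, -1), (26, -3), (27, -2), (28, 1), (29, 1), (31, 1), (32, -1), (33, -1), (35, 1), (39, 1), (40, -1), (41, -1), (43, 1), (45, 1), (48, -2), (49, -2), (50, -1), (52, 1), (53, 1)],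
  [(1, -1), (6, -1), (10, -1), (13, 1), (15, 1), (16, 1), (18, -1), (20, -2), (21, 1), (22, 2), (23, 2), (24, 1), (25, -2), (26, -2), (27, -3), (29, 1), (31, 1), (33, 1), (37, 1), (40, 1), (41, -1), (42, 1), (43, -1), (44, -2), (45, -1), (46, 1), (47, 2), (48, -3), (49, -2), (50, -2), (51, -1), (52, -1), (53, -1), (54, -2)],
  [(4, -1), (12, -1), (13, 1), (14, 1), (15, 1), (16, -2), (17, 1), (18, 1), (19, 1), (20, 1), (21, -1), (24, -2), (25, -2), (26, -1), (31, 2), (34, 1), (35, 2), (37, -1), (39, 3), (40, 1), (41, 1), (42, 1), (43, -1), (44, -1), (45, -2), (46, -3), (47, -2), (48, 2), (49, 1), (50, 2), (51, 2), (52, -1), (54, 1), (55, -2)],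
  [(4, -1), (6, -1), (7, 1), (17, -1), (18, -1), (19, 1), (20, -1), (21, 1), (23, 2), (25, -1), (26, -1), (27, -1), (31, 1), (33, 1), (37, -1), (39, 2), (40, 1), (42, 1), (43, -1), (46, 1), (47, 2), (50, -2), (53, -2), (54, 1)],
  [(6, -1), (12, -1), (13, 1), (15, 1), (16, -1), (18, 1), (19, 1), (23, 1), (24, -2), (25, -2), (26, -1), (27, -1), (29, -2), (31, 2), (32, 2), (33, 2), (34, 1), (36, 1), (37, -1), (39, 2), (40, 2), (41, 2), (42, 1), (43, -1), (44, -1), (45, -3), (46, -2), (47, -2), (48, 1), (50, -2), (51, 1), (52, -2), (53, -2), (54, -1), (55, -2)],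
  [(4, -1), (5, -1), (6, -1), (13, 1), (14, 1), (15, 1), (16, 1), (18, -1), (19, 1), (21, 1), (22, 2), (23, 1), (25, -1), (26, -2), (27, -2), (32, 1), (33, 1), (34, 1), (35, -2), (39, 1), (40, 1), (42, 1), (43, -3), (44, -1), (45, -1), (46, -1), (47, -1), (48, -2), (49, -2), (50, -3), (51, -2), (52, -2), (53, -3), (54, -2), (55, -2)],
  [(8, -1), (16, 1), (18, -1), (24, 1), (25, 1), (26, -1), (31, -1), (35, -1), (38, 1), (39, -1), (41, -1), (44, 1), (45, 1), (47, 1), (49, -1), (50, -1), (51, -2), (53, -1), (54, -1)],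
  [(8, -1), (10, -1), (11, 1), (21, -1), (22, -1), (23, 1), (24, 1), (25, -1), (29, -2), (31, -1), (32, 1), (33, 1), (34, 1), (35, -1), (36, 1), (37, 1), (39, -2), (40, 1), (43, 1), (45, 1), (46, -1), (47, -2), (48, -1), (49, -2), (50, -3), (51, -1), (54, -1)],
  [(10, -1), (16, 1), (20, 1), (21, -1), (27, 1), (29, -2), (31, -1), (32, 1), (34, 1), (35, -1), (36, 2), (37, 1), (39, -3), (40, 1), (44, -1), (45, 1), (46, -1), (47, -3), (48, -2), (49, -2), (50, -3), (53, -1), (54, -2), (55, -1)],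
  [(8, -1), (9, -1), (10, -1), (16, -2), (17, 2), (18, 2), (19, 2), (20, 1), (22, -1), (23, 1), (25, -3), (26, -1), (27, -1), (29, -2), (31, 1), (32, 1), (33, 1), (34, 1), (36, 2), (37, 1), (38, 1), (39, -2), (40, 1), (41, 1), (43, 2), (44, -3), (45, -3), (46, -5), (47, -5), (49, -3), (50, -3), (52, -3), (53, -1), (54, -3), (55, -3)],
  [(12, -1), (15, 1), (16, -2), (17, 1), (19, 1), (20, -2), (21, 1), (23, 1), (25, -2), (26, -2), (27, -2), (29, -2), (31, 2), (32, 1), (34, 1), (35, 2), (36, 1), (37, -1), (39, 2), (40, 2), (41, 1), (42, 1), (43, 1), (45, -1), (46, -1), (48, 1), (50, -1), (51, 1), (53, -2), (54, 1), (55, -1)],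
  [(15, 1), (16, -2), (17, 1), (18, 1), (19, 1), (24, -2), (25, -2), (26, -1), (31, 2), (35, 2), (39, 2), (41, -1), (43, 2), (45, -1), (46, -1), (48, 1), (49, 1), (50, 2), (51, 2), (52, 1), (53, 1), (54, 1), (55, -1)],
  [(16, -2), (17, 1), (18, 1), (19, 1), (25, -2), (26, -1), (27, -1), (31, 1), (35, 1), (39, 1), (40, 1), (41, -1), (43, 1), (44, -1), (45, -2), (46, -1), (48, 1), (50, 1), (51, 1), (53, 1), (55, -1)],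
  [(13, -1), (18, -1), (25, 1), (27, 1), (41, -1), (43, 1), (44, 1), (45, 1), (46, 1), (47, 1), (52, 2), (54, 1), (55, 1)],
  [(16, 1), (17, -1), (18, -1), (20, -2), (21, 1), (23, 1), (24, -2), (25, 1), (29, -2), (31, 1), (32, 1), (34, 1), (35, 1), (36, 1), (37, -1), (39, 1), (40, 1), (43, 2), (44, 4), (45, 1), (46, 2), (47, 1), (48, -1), (50, -2), (52, 1), (53, -1), (54, 1), (55, 2)],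
  [(16, -2), (17, 1), (19, 2), (25, -2), (26, -1), (27, -1), (31, 1), (35, 1), (39, 1), (43, 1), (44, -1), (45, -2), (46, -2), (48, 1), (50, 1), (51, 1), (52, 1), (54, 1), (55, -1)],
  [(18, -1), (24, -2), (25, 1), (27, 1), (31, 1), (35, 1), (39, 1), (43, 1), (44, 2), (47, 1), (49, 1), (50, 1), (51, 1), (52, 1), (54, 1), (55, 1)],
  [(16, -2), (19, 1), (25, -1), (31, 1), (35, 1), (39, 1), (43, 1), (45, -1), (46, -1), (47, 1), (48, 1), (50, 1), (51, 1), (52, 1), (54, 1)],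
  [(16, -2), (17, 1), (19, 1), (20, -1), (23, 1), (24, -2), (25, -1), (26, -1), (27, -1), (29, -2), (31, 2), (32, 1), (34, 1), (35, 2), (36, 1), (37, -1), (39, 2), (40, 1), (43, 3), (44, 2), (45, -1), (46, -1), (48, 1), (51, 2), (52, 1), (54, 2)],
  [(20, -2), (21, 1), (23, 2), (24, -2), (25, -1), (26, -1), (27, -1), (31, 2), (35, 2), (39, 2), (43, 2), (44, 2), (46, 1), (47, 1), (48, -1), (51, 1), (54, 1), (55, 2)],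
  [(22, -1), (24, -2), (26, 1), (27, 1), (31, 1), (35, 1), (39, 1), (43, 1), (44, 1), (48, 1), (49, 1), (50, 1), (51, 2), (52, 1), (54, 1), (55, 1)],
  [(20, -2), (23, 1), (25, -1), (26, -1), (31, 1), (35, 1), (39, 1), (43, 1), (44, 1), (46, 1), (47, 1), (51, 1), (52, 1), (54, 1), (55, 1)],
  [(18, -1), (20, -2), (21, 1), (22, 1), (23, 1), (24, -1), (26, -1), (27, -1), (29, -2), (31, 1), (32, 1), (34, 1), (35, 1), (36, 1), (37, -1), (39, 1), (40, 1), (43, 2), (44, 3), (45, 1), (46, 1), (47, 1), (48, -1), (49, -1), (50, -2), (52, 1), (53, -1), (54, 1), (55, 1)],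
  [(27, 1)],
  [(52, 1)],
  [(25, -1)],
  [(2, -1), (6, -1), (8, -1), (12, -1), (13, 1), (15, 1), (16, -1), (17, 1), (19, 1), (20, -2), (21, 2), (22, 2), (23, 2), (24, -1), (25, -2), (26, -3), (27, -4), (29, 1), (31, 3), (33, -1), (35, 3), (37, 1), (38, 1), (39, 3), (40, 1), (41, -1), (42, 1), (43, 1), (45, -2), (46, -1), (47, 1), (48, -2), (49, -1), (50, 1), (53, -2), (54, -2), (55, -2)],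
  [(4, -1), (6, -1), (10, -1), (13, 1), (16, -1), (17, 1), (19, 1), (20, 1), (23, 1), (24, -1), (25, -1), (26, -1), (27, -1), (29, 1), (31, 2), (35, 1), (37, 1), (39, 1), (41, -1), (42, 1), (44, -2), (45, -1), (46, -2), (48, -1), (51, 2), (53, 1), (55, -1)],
  [(0, -1), (4, -1), (6, -1), (8, -1), (13, 1), (14, 1), (16, 1), (20, -2), (21, 2), (22, 3), (23, 2), (24, -2), (26, -2), (27, -4), (29, 1), (31, 2), (35, 1), (38, 1), (39, 3), (41, 1), (42, 1), (44, 1), (45, -2), (46, -1), (48, -3), (49, -1), (50, -1), (51, -1), (52, -2), (53, -2), (54, -2), (55, -1)],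
  [(29, -4), (31, -1), (32, 2), (33, 2), (34, 2), (35, -2), (36, 2), (39, -2), (40, 2), (41, 2), (46, -1), (47, -3), (48, -1), (49, -2), (50, -5), (51, -2), (52, -2), (53, -2), (54, -2), (55, -2)],
  [(6, -2), (13, 1), (19, 1), (20, -2), (21, 2), (22, 2), (23, 2), (25, -2), (26, -2), (27, -4), (31, 2), (32, 1), (39, 2), (40, 1), (42, 1), (43, -1), (44, -1), (45, -2), (47, 2), (48, -2), (49, -1), (50, -2), (52, -1), (53, -2), (54, -1), (55, -1)],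
  [(20, -2), (21, 1), (22, 1), (23, 1), (24, -2), (26, -1), (27, -1), (31, 2), (33, -1), (35, 3), (39, 2), (43, 2), (44, 2), (46, 1), (47, 1), (48, -1), (50, 1), (51, 1), (52, 1), (54, 1), (55, 1)],
  [(4, -2), (13, 1), (14, 1), (18, 1), (20, -2), (21, 1), (22, 1), (23, 2), (25, -1), (26, -2), (27, -2), (31, 1), (34, 1), (35, 1), (39, 2), (41, 1), (42, 1), (43, -1), (45, -1), (47, -1), (48, -2), (49, -2), (50, -2), (52, -2), (53, -2), (55, -1)],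
  [(33, -2), (35, 1), (50, 1), (51, 1), (52, 1), (54, 1)],
  [(10, -2), (16, -2), (17, 2), (18, 1), (19, 1), (20, -2), (21, 1), (23, 2), (24, -2), (25, -2), (26, -1), (27, -2), (31, 4), (35, 4), (36, 1), (39, 2), (43, 4), (45, -2), (46, -2), (47, -1), (48, -1), (49, 1), (51, 3), (53, 1), (54, 1), (55, 2)],
  [(18, -1), (22, -1), (24, -2), (25, 1), (26, 1), (27, 1), (31, 1), (35, 1), (37, -1), (39, 2), (43, 1), (44, 2), (47, 1), (48, 1), (49, 2), (50, 1), (51, 2), (52, 1), (54, 2), (55, 2)],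
  [(8, -2), (16, -2), (17, 2), (18, 2), (19, 1), (22, 1), (24, -2), (25, -1), (26, -2), (27, -2), (31, 2), (35, 2), (38, 1), (39, 2), (43, 3), (45, -2), (46, -3), (47, -1), (48, 1), (49, -1), (50, 2), (51, 1), (54, -1), (55, -1)],
  [(37, -2), (39, 1), (44, 1), (47, 1), (48, 1), (49, 1), (54, 1), (55, 1)],
  [(14, -1), (18, -1), (24, -2), (25, 1), (27, 1), (31, 1), (35, 1), (39, 1), (41, -1), (43, 2), (44, 2), (45, 1), (46, 1), (47, 2), (49, 1), (50, 1), (51, 1), (52, 2), (53, 1), (54, 1), (55, 1)],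
  [(16, -2), (17, 1), (19, 1), (25, -1), (26, -1), (27, -1), (31, 1), (35, 1), (39, 1), (41, -1), (43, 2), (45, -1), (46, -1), (47, 1), (48, 1), (50, 1), (51, 1), (52, 1), (53, 1), (54, 1)],
  [(12, -2), (13, 1), (14, 1), (15, 1), (16, -2), (17, 1), (19, 1), (25, -2), (26, -1), (27, -2), (31, 2), (35, 2), (39, 2), (40, 1), (42, 1), (43, -1), (44, -1), (45, -1), (46, -2), (47, -1), (48, 2), (49, 1), (50, 2), (51, 1), (53, -1), (55, -1)],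
  [(41, -2), (43, 1), (44, 1), (45, 1), (46, 1), (47, 1), (52, 1), (53, 1)],
  [(18, -2), (25, 1), (44, 1), (45, 1), (47, 1), (52, 1), (54, 1), (55, 1)],
  [(47, 1)],
  [(16, -4), (17, 2), (18, 2), (19, 2), (25, -3), (26, -1), (27, -2), (31, 2), (35, 2), (39, 2), (43, 2), (44, -2), (45, -3), (46, -3), (47, -1), (48, 2), (50, 2), (51, 2), (53, 1), (54, 1), (55, -2)],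
  [(45, -1)],
  [(22, -2), (26, 1), (27, 1), (48, 1), (49, 1), (51, 1), (54, 1), (55, 1)],
  [(51, 1)],
  [(20, -4), (21, 2), (22, 2), (23, 2), (25, -1), (26, -2), (27, -3), (31, 2), (35, 2), (39, 2), (43, 2), (44, 2), (46, 2), (47, 2), (48, -2), (49, -1), (50, -1), (51, -1), (53, -1), (55, 1)],
  [(49, -1)],
  [(26, -1)],
  [(55, 1)],
  [(24, -4), (25, 1), (26, 1), (27, 1), (31, 2), (35, 2), (39, 2), (43, 2), (44, 2), (49, 2), (50, 2), (51, 2), (52, 1), (53, 1), (54, 1), (55, 1)],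
  [(53, -1)]]

/-- The images of the basis. -/
def imgRk : List (List ℤ) := [
  [0, 0, 0, 0, 0, 0, 0, 0, -1, 0, -1, 0, 0, 0, 0, 0, 0, 0, -1, 0, 0, 0, -1, 1, 0, 1, 0, 0, 0, 1, 1, 0, 0, 1, 0, 1, 0, -1, 0, 1, 1, -2, 0, 1, 0, 0, 0, -1, 0, -2, 0, 0, 0, 0, 0, 1],
  [0, 0, 0, 1, -1, 0, 0, 0, 0, 0, 0, 0, -1, -1, -1, 1, -2, 0, 1, 0, -2, 0, 0, 0, -2, 1, -2, 0, 0, 1, 0, 0, 0, -2, 0, 1, 0, 1, 0, 1, 0, -2, 0, 0, 0, -1, 0, 0, 1, -1, 0, 0, 1, -2, 0, 2],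
  [0, 0, 0, 0, -1, 0, 0, 0, -1, 0, -1, 0, 0, -1, -1, 0, 0, 0, -2, 0, -1, -1, 1, 1, 1, -2, -1, 1, 1, 1, 0, 0, 0, -1, 0, 0, 0, -2, 0, 0, 0, -2, 0, 0, 0, 1, 0, -1, 0, -2, 0, 0, 1, 1, 0, -1],
  [0, -1, 0, 0, 0, 0, -1, 0, 0, 0, -1, 0, 0, 0, 0, 1, 1, 0, -1, 0, -2, -1, 0, 0, 1, -2, 1, 1, 0, 1, 0, 0, 0, 1, 0, 0, 0, 0, 0, 1, 1, -1, 0, 1, 0, -2, 0, 2, 1, -1, 0, 1, 0, -2, 0, 1],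
  [0, 0, 0, 0, -1, 0, 0, 0, 0, 0, 0, 0, -1, 0, 0, 1, -2, 0, -1, 0, 1, -1, 0, 0, -2, -2, -2, 2, 0, 0, 0, 0, 0, -1, 1, 1, 0, -2, 0, 0, 1, 0, 0, 1, 1, 1, 0, 1, 1, -1, 0, 0, 0, 0, 0, 0],
  [0, 0, 0, 0, -1, 0, -1, 1, 0, 0, 0, 0, 0, -1, -1, 1, 0, -1, -2, 1, -1, 0, -2, 1, 0, -2, -2, 2, 0, 0, 0, 0, 0, 1, 0, 0, 0, -2, 0, 0, 1, 0, 0, 0, 0, 1, 0, -1, 1, 0, 0, -1, 2, -2, 0, 0],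
  [0, 0, 0, 0, 0, 0, -1, 0, 0, 0, 0, 0, -1, 0, -1, 1, -1, -1, 1, 0, 0, -1, -1, 1, -2, 0, -2, 0, 0, -2, 0, 0, 1, 1, 0, 1, 0, -2, 0, 0, 0, 1, 0, 0, 0, -2, 0, -1, 1, -2, 0, 2, 0, 0, 0, 2],
  [0, 0, 0, 0, -1, -1, -1, 0, 0, 0, 0, 0, 0, -1, 0, 1, 1, 0, -2, 1, 0, 0, 1, 0, 0, -2, -2, 2, 0, 0, 0, 0, 0, 0, 0, 1, 0, 0, 0, 0, 0, -1, 0, 1, 1, 0, 0, -1, 1, 1, 0, 1, 0, -2, 0, 2],
  [0, 0, 0, 0, 0, 0, 0, 0, -1, 0, 0, 0, 0, 0, 0, 0, 1, 0, -2, 1, 0, 0, -1, 0, 1, 1, -2, 2, 0, 0, 0, 0, 0, 0, 0, 0, 0, -1, 1, 1, 0, -2, 0, 0, 1, 0, 0, 1, 1, 1, 0, -1, -1, -1, 0, 0],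
  [0, 0, 0, 0, 0, 0, 0, 0, -1, 0, -1, 1, 0, 0, 0, 0, 0, -1, -1, 1, 0, -1, -2, 1, 1, -2, 0, 1, 0, -2, 0, 0, 0, 0, 0, 0, 0, 1, 0, 0, 0, -2, 0, 0, 1, 0, 0, 0, 0, 1, 0, -1, 1, 0, 0, 1],
  [0, 0, 0, 0, 0, 0, 0, 0, 0, 0, -1, 0, 0, 0, 0, 0, 1, 0, 1, 1, 1, -1, 1, 0, 0, -1, -1, 1, 0, -2, 0, 0, 0, -2, 0, 0, 1, 1, 0, 1, 0, -2, 0, 0, 0, 1, 0, 0, 0, -2, 0, 1, 1, -2, 0, 2],
  [0, 0, 0, 0, 0, 0, 0, 0, -1, -1, -1, 0, 0, 0, 0, 0, -2, -1, 0, 1, 1, 0, -2, 1, 0, -2, -1, 2, 0, -2, 0, 0, 0, 0, 0, 0, 0, 0, 0, 1, 0, 0, 0, 0, 0, -1, 0, -1, 1, -2, 0, 1, -1, 1, 0, 1],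
  [0, 0, 0, 0, 0, 0, 0, 0, 0, 0, 0, 0, -1, -1, -1, 1, -2, 0, -2, 0, -2, 0, -2, 0, 0, 0, -2, 0, 0, -2, 0, 0, 0, -2, 0, 0, 0, -2, 0, 0, 1, -1, 1, 1, 0, 0, 0, 2, 0, 0, 0, 2, 0, 0, 0, 0],
  [0, 0, 0, 0, 0, 0, 0, 0, 0, 0, 0, 0, 0, 0, 0, 2, -2, 0, 0, 0, 0, 0, 0, 0, -2, -2, -2, 2, 0, 0, 0, 0, 0, 0, 0, 0, 0, 0, 0, 0, 0, -2, 0, 0, 0, 0, 0, 2, 0, 0, 0, 0, 0, 0, 0, 0],
  [0, 0, 0, 0, 0, 0, 0, 0, 0, 0, 0, 0, 0, 0, 0, 0, -2, 0, 0, 0, 0, 0, 0, 0, 0, -2, -2, 0, 0, 0, 0, 0, 0, 0, 0, 0, 0, 0, 0, 0, 2, -2, 0, 0, 0, -2, 0, 0, 0, 0, 0, 0, 0, 0, 0, 0],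
  [0, 0, 0, 0, 0, 0, 0, 0, 0, 0, 0, 0, 0, -2, 0, 0, 0, 0, -2, 0, 0, 0, 0, 0, 0, 0, 0, 2, 0, 0, 0, 0, 0, 0, 0, 0, 0, 0, 0, 0, 0, -2, 0, 0, 0, -2, 0, 0, 0, 0, 0, 0, 2, -2, 0, 2],
  [0, 0, 0, 0, 0, 0, 0, 0, 0, 0, 0, 0, 0, 0, 0, 0, 1, -1, -1, 1, -2, 0, -2, 0, -2, 0, -2, 0, 0, -2, 0, 0, 0, -2, 0, 0, 0, -2, 0, 0, 0, -2, 0, 0, 1, -1, 1, -1, 0, -2, 0, 0, 0, 0, 0, 2],
  [0, 0, 0, 0, 0, 0, 0, 0, 0, 0, 0, 0, 0, 0, 0, 0, -2, 0, -2, 2, 0, 0, 0, 0, 0, -2, -2, 2, 0, 0, 0, 0, 0, 0, 0, 0, 0, 0, 0, 0, 0, 0, 0, 0, 0, -2, 0, 0, 0, 0, 0, 0, 2, 0, 0, 0],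
  [0, 0, 0, 0, 0, 0, 0, 0, 0, 0, 0, 0, 0, 0, 0, 0, 0, 0, -2, 0, 0, 0, 0, 0, -2, 0, -2, 2, 0, 0, 0, 0, 0, 0, 0, 0, 0, 0, 0, 0, 0, 0, 0, 0, 2, -2, 0, 2, 0, 0, 0, 0, 0, -2, 0, 0],
  [0, 0, 0, 0, 0, 0, 0, 0, 0, 0, 0, 0, 0, 0, 0, 0, -2, -2, -2, 0, 0, 0, 0, 0, 0, -2, 0, 2, 0, 0, 0, 0, 0, 0, 0, 0, 0, 0, 0, 0, 0, 0, 0, 0, 0, 0, 0, 2, 0, 0, 0, 0, 0, -2, 0, 2],
  [0, 0, 0, 0, 0, 0, 0, 0, 0, 0, 0, 0, 0, 0, 0, 0, -2, 0, -2, 0, -1, -1, -1, 1, -2, 0, -2, 0, 0, -2, 0, 0, 0, -2, 0, 0, 0, -2, 0, 0, 0, -2, 0, 0, 0, -2, 0, 0, 1, -1, 1, 1, 0, -2, 0, 0],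
  [0, 0, 0, 0, 0, 0, 0, 0, 0, 0, 0, 0, 0, 0, 0, 0, 0, 0, 0, 0, -2, 0, -2, 2, -2, -2, -2, 0, 0, 0, 0, 0, 0, 0, 0, 0, 0, 0, 0, 0, 0, 0, 0, 0, 0, 0, 0, 0, 0, -2, 0, 0, 0, 0, 0, 2],
  [0, 0, 0, 0, 0, 0, 0, 0, 0, 0, 0, 0, 0, 0, 0, 0, 0, 0, 0, 0, 0, 0, -2, 0, -2, -2, 0, 0, 0, 0, 0, 0, 0, 0, 0, 0, 0, 0, 0, 0, 0, 0, 0, 0, 0, 0, 0, 0, 2, -2, 0, 2, 2, -2, 0, 0],
  [0, 0, 0, 0, 0, 0, 0, 0, 0, 0, 0, 0, 0, 0, 0, 0, 0, 0, 0, 0, -2, -2, -2, 0, 0, -2, -2, 2, 0, 0, 0, 0, 0, 0, 0, 0, 0, 0, 0, 0, 0, 0, 0, 0, 0, 0, 0, 0, 0, 0, 0, 2, 2, 0, 0, 0],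
  [0, 0, 0, 0, 0, 0, 0, 0, 0, 0, 0, 0, 0, 0, 0, 0, 0, 0, -2, 0, -2, 0, 0, 0, -1, -1, -1, 1, 0, -2, 0, 0, 0, -2, 0, 0, 0, -2, 0, 0, 0, -2, 0, 0, 0, 0, 0, 0, 0, -2, 0, 2, 1, -1, 1, 1],
  [0, 0, 0, 0, 0, 0, 0, 0, 0, 0, 0, 0, 0, 0, 0, 0, 0, 0, 0, 0, 0, 0, 0, 0, 0, 0, 0, 4, 0, 0, 0, 0, 0, 0, 0, 0, 0, 0, 0, 0, 0, 0, 0, 0, 0, 0, 0, 0, 0, 0, 0, 0, 0, 0, 0, 0],
  [0, 0, 0, 0, 0, 0, 0, 0, 0, 0, 0, 0, 0, 0, 0, 0, 0, 0, 0, 0, 0, 0, 0, 0, 0, 0, 0, 0, 0, 0, 0, 0, 0, 0, 0, 0, 0, 0, 0, 0, 0, 0, 0, 0, 0, 0, 0, 0, 0, 0, 0, 0, 4, 0, 0, 0],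
  [0, 0, 0, 0, 0, 0, 0, 0, 0, 0, 0, 0, 0, 0, 0, 0, 0, 0, 0, 0, 0, 0, 0, 0, 0, -4, 0, 0, 0, 0, 0, 0, 0, 0, 0, 0, 0, 0, 0, 0, 0, 0, 0, 0, 0, 0, 0, 0, 0, 0, 0, 0, 0, 0, 0, 0],
  [0, 0, -1, 0, 0, 0, -1, 0, -1, 0, 0, 0, -1, 0, -1, 0, -1, 0, -2, 0, -2, 0, 0, 0, -1, 0, -1, 0, 0, 1, 0, 0, 0, -2, 0, 1, 0, 1, 0, 0, 0, -2, 0, 0, 0, 0, 0, 1, 0, 1, 0, -1, 0, -1, 0, 1],
  [0, 0, 0, 0, -1, 0, -1, 0, 0, 0, -1, 0, 0, 0, -1, 0, -1, 0, -2, 0, 1, 0, -1, 0, -1, 0, -2, 0, 0, 1, 0, 1, 0, -1, 0, 1, 0, 1, 0, 0, 0, -2, 0, 1, 0, 1, 0, 2, 0, 0, 0, 0, 0, 0, 0, 1],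
  [-1, 0, 0, 0, -1, 0, -1, 0, -1, 0, 0, 0, 0, 0, 0, 0, 1, 0, -1, 0, -2, 0, 1, 0, -2, 0, 1, 0, 0, 1, 0, 0, 0, -2, 0, 0, 0, -2, 0, 1, 0, 1, 0, 1, 0, -1, 0, -1, 0, 1, 0, 0, 0, 0, 0, -1],
  [0, 0, 0, 0, 0, 0, 0, 0, 0, 0, 0, 0, 0, 0, 0, 0, 0, 0, 0, 0, 0, 0, 0, 0, 0, 0, 0, 0, 0, -4, 0, 0, 0, 0, 0, 0, 0, 0, 0, 0, 0, 0, 0, 0, 0, 0, 0, 0, 0, 0, 0, 0, 0, 0, 0, 0],
  [0, 0, 0, 0, 0, 0, -2, 0, 0, 0, 0, 0, 0, 0, 0, 0, 0, 0, 0, 0, -2, 0, 0, 0, 0, 0, 0, 0, 0, 0, 0, 0, 0, -2, 0, 0, 0, 0, 0, 0, 0, 0, 0, 0, 0, 0, 0, 0, 0, 0, 0, 2, 0, -2, 0, 2],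
  [0, 0, 0, 0, 0, 0, 0, 0, 0, 0, 0, 0, 0, 0, 0, 0, 0, 0, 0, 0, -2, 0, 0, 0, -2, 0, -2, 0, 0, 0, 0, 0, 0, -2, 0, 2, 0, 0, 0, 0, 0, 0, 0, 0, 0, 0, 0, 0, 0, -2, 0, 0, 0, 0, 0, 0],
  [0, 0, 0, 0, -2, 0, 0, 0, 0, 0, 0, 0, 0, 0, 0, 0, 0, 0, 0, 0, -2, 0, -2, 0, 0, 0, -2, 0, 0, 0, 0, 0, 0, -2, 0, 0, 0, 0, 0, 0, 0, 0, 0, 0, 0, 0, 0, 0, 0, -2, 0, 2, 0, -2, 0, 0],
  [0, 0, 0, 0, 0, 0, 0, 0, 0, 0, 0, 0, 0, 0, 0, 0, 0, 0, 0, 0, 0, 0, 0, 0, 0, 0, 0, 0, 0, 0, 0, 0, 0, -4, 0, 0, 0, 0, 0, 0, 0, 0, 0, 0, 0, 0, 0, 0, 0, 0, 0, 0, 0, 0, 0, 0],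
  [0, 0, 0, 0, 0, 0, 0, 0, 0, 0, -2, 0, 0, 0, 0, 0, -2, 0, 0, 0, -2, 0, -2, 0, -2, 0, 0, 0, 0, 0, 0, 0, 0, 0, 0, 0, 0, -2, 0, 0, 0, 0, 0, 0, 0, -2, 0, 0, 0, 0, 0, 0, 0, 0, 0, 2],
  [0, 0, 0, 0, 0, 0, 0, 0, 0, 0, 0, 0, 0, 0, 0, 0, 0, 0, -2, 0, 0, 0, -2, 0, -2, 0, 0, 0, 0, 0, 0, 0, 0, 0, 0, 0, 0, -2, 0, 2, 0, 0, 0, 0, 0, -2, 0, 0, 0, 0, 0, 2, 0, -2, 0, 0],
  [0, 0, 0, 0, 0, 0, 0, 0, -2, 0, 0, 0, 0, 0, 0, 0, -2, 0, 0, 0, 0, 0, 0, 0, -2, 0, -2, 0, 0, 0, 0, 0, 0, 0, 0, 0, 0, -2, 0, 0, 0, 0, 0, 0, 0, 0, 0, 2, 0, -2, 0, 2, 0, -2, 0, 2],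
  [0, 0, 0, 0, 0, 0, 0, 0, 0, 0, 0, 0, 0, 0, 0, 0, 0, 0, 0, 0, 0, 0, 0, 0, 0, 0, 0, 0, 0, 0, 0, 0, 0, 0, 0, 0, 0, -4, 0, 0, 0, 0, 0, 0, 0, 0, 0, 0, 0, 0, 0, 0, 0, 0, 0, 0],
  [0, 0, 0, 0, 0, 0, 0, 0, 0, 0, 0, 0, 0, 0, -2, 0, 0, 0, -2, 0, 0, 0, 0, 0, -2, 0, -2, 0, 0, 0, 0, 0, 0, 0, 0, 0, 0, 0, 0, 0, 0, -2, 0, 0, 0, 0, 0, 2, 0, 0, 0, 0, 0, 0, 0, 0],
  [0, 0, 0, 0, 0, 0, 0, 0, 0, 0, 0, 0, 0, 0, 0, 0, -2, 0, -2, 0, 0, 0, 0, 0, 0, 0, -2, 0, 0, 0, 0, 0, 0, 0, 0, 0, 0, 0, 0, 0, 0, -2, 0, 2, 0, -2, 0, 2, 0, 0, 0, 0, 0, 0, 0, 2],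
  [0, 0, 0, 0, 0, 0, 0, 0, 0, 0, 0, 0, -2, 0, 0, 0, -2, 0, -2, 0, 0, 0, 0, 0, 0, 0, 0, 0, 0, 0, 0, 0, 0, 0, 0, 0, 0, 0, 0, 0, 0, -2, 0, 0, 0, 0, 0, 0, 0, 0, 0, 0, 0, -2, 0, 2],
  [0, 0, 0, 0, 0, 0, 0, 0, 0, 0, 0, 0, 0, 0, 0, 0, 0, 0, 0, 0, 0, 0, 0, 0, 0, 0, 0, 0, 0, 0, 0, 0, 0, 0, 0, 0, 0, 0, 0, 0, 0, -4, 0, 0, 0, 0, 0, 0, 0, 0, 0, 0, 0, 0, 0, 0],
  [0, 0, 0, 0, 0, 0, 0, 0, 0, 0, 0, 0, 0, 0, 0, 0, 0, 0, -4, 0, 0, 0, 0, 0, 0, 0, 0, 0, 0, 0, 0, 0, 0, 0, 0, 0, 0, 0, 0, 0, 0, 0, 0, 0, 0, 0, 0, 0, 0, 0, 0, 0, 0, 0, 0, 0],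
  [0, 0, 0, 0, 0, 0, 0, 0, 0, 0, 0, 0, 0, 0, 0, 0, 0, 0, 0, 0, 0, 0, 0, 0, 0, 0, 0, 0, 0, 0, 0, 0, 0, 0, 0, 0, 0, 0, 0, 0, 0, 0, 0, 0, 0, 0, 0, 4, 0, 0, 0, 0, 0, 0, 0, 0],
  [0, 0, 0, 0, 0, 0, 0, 0, 0, 0, 0, 0, 0, 0, 0, 0, -4, 0, 0, 0, 0, 0, 0, 0, 0, 0, 0, 0, 0, 0, 0, 0, 0, 0, 0, 0, 0, 0, 0, 0, 0, 0, 0, 0, 0, 0, 0, 0, 0, 0, 0, 0, 0, 0, 0, 0],
  [0, 0, 0, 0, 0, 0, 0, 0, 0, 0, 0, 0, 0, 0, 0, 0, 0, 0, 0, 0, 0, 0, 0, 0, 0, 0, 0, 0, 0, 0, 0, 0, 0, 0, 0, 0, 0, 0, 0, 0, 0, 0, 0, 0, 0, -4, 0, 0, 0, 0, 0, 0, 0, 0, 0, 0],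
  [0, 0, 0, 0, 0, 0, 0, 0, 0, 0, 0, 0, 0, 0, 0, 0, 0, 0, 0, 0, 0, 0, -4, 0, 0, 0, 0, 0, 0, 0, 0, 0, 0, 0, 0, 0, 0, 0, 0, 0, 0, 0, 0, 0, 0, 0, 0, 0, 0, 0, 0, 0, 0, 0, 0, 0],
  [0, 0, 0, 0, 0, 0, 0, 0, 0, 0, 0, 0, 0, 0, 0, 0, 0, 0, 0, 0, 0, 0, 0, 0, 0, 0, 0, 0, 0, 0, 0, 0, 0, 0, 0, 0, 0, 0, 0, 0, 0, 0, 0, 0, 0, 0, 0, 0, 0, 0, 0, 4, 0, 0, 0, 0],
  [0, 0, 0, 0, 0, 0, 0, 0, 0, 0, 0, 0, 0, 0, 0, 0, 0, 0, 0, 0, -4, 0, 0, 0, 0, 0, 0, 0, 0, 0, 0, 0, 0, 0, 0, 0, 0, 0, 0, 0, 0, 0, 0, 0, 0, 0, 0, 0, 0, 0, 0, 0, 0, 0, 0, 0],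
  [0, 0, 0, 0, 0, 0, 0, 0, 0, 0, 0, 0, 0, 0, 0, 0, 0, 0, 0, 0, 0, 0, 0, 0, 0, 0, 0, 0, 0, 0, 0, 0, 0, 0, 0, 0, 0, 0, 0, 0, 0, 0, 0, 0, 0, 0, 0, 0, 0, -4, 0, 0, 0, 0, 0, 0],
  [0, 0, 0, 0, 0, 0, 0, 0, 0, 0, 0, 0, 0, 0, 0, 0, 0, 0, 0, 0, 0, 0, 0, 0, 0, 0, -4, 0, 0, 0, 0, 0, 0, 0, 0, 0, 0, 0, 0, 0, 0, 0, 0, 0, 0, 0, 0, 0, 0, 0, 0, 0, 0, 0, 0, 0],
  [0, 0, 0, 0, 0, 0, 0, 0, 0, 0, 0, 0, 0, 0, 0, 0, 0, 0, 0, 0, 0, 0, 0, 0, 0, 0, 0, 0, 0, 0, 0, 0, 0, 0, 0, 0, 0, 0, 0, 0, 0, 0, 0, 0, 0, 0, 0, 0, 0, 0, 0, 0, 0, 0, 0, 4],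
  [0, 0, 0, 0, 0, 0, 0, 0, 0, 0, 0, 0, 0, 0, 0, 0, 0, 0, 0, 0, 0, 0, 0, 0, -4, 0, 0, 0, 0, 0, 0, 0, 0, 0, 0, 0, 0, 0, 0, 0, 0, 0, 0, 0, 0, 0, 0, 0, 0, 0, 0, 0, 0, 0, 0, 0],
  [0, 0, 0, 0, 0, 0, 0, 0, 0, 0, 0, 0, 0, 0, 0, 0, 0, 0, 0, 0, 0, 0, 0, 0, 0, 0, 0, 0, 0, 0, 0, 0, 0, 0, 0, 0, 0, 0, 0, 0, 0, 0, 0, 0, 0, 0, 0, 0, 0, 0, 0, 0, 0, -4, 0, 0]]

/-- The images of the basis in the basis. -/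
def combSign : List (List (ℕ × ℤ)) := [
  [(0, -1), (33, 1), (35, -1), (36, 1), (37, 1), (38, 1), (39, -1), (45, -1), (46, -1), (47, -1), (48, -1), (49, -1), (50, -1), (51, -1), (52, -1), (53, -1), (54, -2), (55, -1)],
  [(1, -1), (33, 1), (34, 1), (37, 1), (39, -1), (44, -1), (46, 1), (48, -1), (49, -1), (50, -1), (51, -1), (52, -1), (54, -1), (55, -1)],
  [(2, -1), (34, 1), (36, 1), (38, 1), (44, 1), (45, -1), (46, -1), (47, -1), (48, -1), (49, -1), (50, -1), (51, -1), (52, -1), (53, -1), (54, -1), (55, -1)],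
  [(3, -1), (32, 1), (35, -1), (36, 1), (37, 1), (39, -1), (45, 1), (46, -1), (48, -1), (49, -1), (50, -1), (53, -1), (54, -1), (55, -1)],
  [(4, 1), (13, -1), (14, -1), (22, -1), (23, -1), (26, 1), (27, 1), (41, -1), (42, -1), (43, 2), (44, 1), (45, 1), (46, 2), (47, 1), (48, 1), (49, 1), (50, 1), (52, 1), (53, 1), (55, 1)],
  [(5, 1), (13, -1), (14, -1), (15, -1), (21, -1), (22, -1), (27, 1), (40, -1), (43, 2), (44, 1), (45, 1), (46, 1), (47, 1), (49, 1), (51, 1), (52, 1), (53, 1), (54, 2)],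
  [(6, 1), (13, -1), (21, -1), (22, -1), (23, -1), (25, 1), (26, 1), (27, 2), (31, -1), (40, -1), (42, -1), (43, 2), (44, 1), (45, 1), (46, 1), (48, 1), (50, 1), (52, 1), (54, 1), (55, 1)],
  [(7, 1), (13, -1), (15, -1), (22, -1), (26, 1), (41, -1), (43, 1), (44, 1), (45, 1), (46, 1), (47, 1), (48, 1), (51, 1), (54, 1)],
  [(8, 1), (22, -1), (25, -1), (26, 1), (27, 1), (43, -1), (49, 1), (51, 1), (52, -1), (54, 1)],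
  [(9, 1), (21, -1), (23, -1), (31, -1), (43, -1), (49, 1), (50, 1), (51, 1), (52, 1), (54, 1)],
  [(10, 1), (23, -1), (31, -1), (43, -1), (48, 1), (50, 1), (51, -1), (53, -1), (55, -1)],
  [(11, 1), (21, -1), (22, -1), (25, -1), (26, 1), (31, -1), (50, 1), (54, 1), (55, 1)],
  [(12, -1), (35, 1), (39, 1), (44, 1), (45, 1), (46, 1)],
  [(13, -1), (45, 1), (46, 1)],
  [(14, -1), (46, 1), (47, 1)],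
  [(15, -1), (44, 1), (47, 1)],
  [(16, 1), (31, -1), (43, -1), (48, -1), (50, -1), (51, -1), (52, -1), (53, -1), (54, -1)],
  [(17, 1), (25, -1), (26, -1), (27, -1), (52, -1)],
  [(18, 1), (25, -1), (52, -1), (54, -1), (55, -1)],
  [(19, 1), (25, -1), (27, -1), (53, -1), (55, -1)],
  [(20, -1), (35, 1), (39, 1), (44, 1), (46, 1), (47, 1)],
  [(21, -1)],
  [(22, -1)],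
  [(23, -1)],
  [(24, -1), (35, 1), (39, 1), (44, 1)],
  [(25, -1)],
  [(26, -1)],
  [(27, -1)],
  [(28, -1), (32, 1), (33, 1), (38, 1), (39, -1), (44, 1), (49, -1), (50, -1), (51, -1), (52, -1), (53, -1), (54, -1), (55, -1)],
  [(29, -1), (32, 1), (33, 1), (34, 1), (35, -1), (36, 1), (39, -1), (44, 1), (45, 1), (47, -1), (48, -1), (49, -1), (50, -2), (51, -1), (52, -1), (53, -1), (54, -1), (55, -1)],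
  [(30, -1), (32, 1), (34, 1), (37, 1), (38, 1), (45, -1), (46, -1), (48, -1), (49, -2), (50, -1), (51, -1), (52, -1), (53, -1), (54, -1), (55, -2)],
  [(31, -1)],
  [(32, 1), (49, -1), (50, -1), (53, -1), (55, -1)],
  [(33, 1), (50, -1), (51, -1), (52, -1), (54, -1)],
  [(34, 1), (48, -1), (49, -1), (50, -1), (51, -1), (52, -1), (55, -1)],
  [(35, 1)],
  [(36, 1), (48, -1), (50, -1), (53, -1), (54, -1)],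
  [(37, 1), (48, -1), (49, -1), (54, -1), (55, -1)],
  [(38, 1), (49, -1), (51, -1), (52, -1), (53, -1), (54, -1), (55, -1)],
  [(39, 1)],
  [(40, -1), (44, 1), (45, 1)],
  [(41, -1), (44, 1), (45, 1), (46, 1), (47, 1)],
  [(42, -1), (44, 1), (46, 1)],
  [(43, -1)],
  [(44, 1)],
  [(45, 1)],
  [(46, 1)],
  [(47, 1)],
  [(48, -1)],
  [(49, -1)],
  [(50, -1)],
  [(51, -1)],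
  [(52, -1)],
  [(53, -1)],
  [(54, -1)],
  [(55, -1)]]

/-- The images of the basis. -/
def imgSign : List (List ℤ) := [
  [-1, 0, 0, 0, 0, 0, 0, 0, 0, 0, 0, 0, 0, 0, -1, 0, 0, 0, 0, 0, 0, -1, 0, 0, 0, 0, 0, 1, 0, 0, 0, 1, 0, 1, 0, -1, 1, 1, 1, 1, 0, -1, 0, -2, 1, -1, 0, 0, -1, 0, 0, -2, 0, -1, 0, 0],
  [0, -1, 0, 0, 0, 0, 0, 0, 0, 0, 0, 0, 0, -1, 0, -1, 0, 0, 0, 0, 0, 0, -1, 0, 0, 0, -1, 1, 0, 0, 0, 1, 0, 1, 1, 2, 0, 1, 0, -1, -1, 0, -1, -2, -1, 0, 2, 1, 0, 0, -2, -1, -2, -2, -2, -2],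
  [0, 0, -1, 0, 0, 0, 0, 0, 0, 0, 0, 0, 0, 0, 0, -1, 0, 0, 0, 0, 0, -1, 0, -1, 0, -1, -1, -2, 0, 0, 0, 1, 0, 0, 1, 1, 1, 0, 1, 2, -1, 0, 0, -2, 2, -1, 0, -1, 1, 0, -1, -2, -1, 1, 1, 1],
  [0, 0, 0, -1, 0, 0, 0, 0, 0, 0, 0, 0, 0, -1, -1, 0, 0, 0, 0, 0, 0, 0, -1, -1, 0, -1, 0, -2, 0, 0, 0, 1, 1, 0, 0, -1, 1, 1, 0, 0, 0, -1, 0, -1, 1, 2, -1, 2, 0, -1, -2, -1, 1, -1, 1, -2],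
  [0, 0, 0, 0, 1, 0, 0, 0, 0, 0, 0, 0, 0, -1, -1, 0, 0, 0, 1, 0, 0, 0, -1, -1, 0, -2, 0, -2, 0, 0, 0, 0, 0, 1, 1, 1, 0, 0, 0, 2, 0, -1, -1, 0, 1, 1, 2, -1, 0, 0, 1, -1, -2, 0, -2, 0],
  [0, 0, 0, 0, 0, 1, 0, 0, 0, 0, 0, 0, 0, -1, -1, -1, 0, 1, 0, 1, 0, -1, -1, 0, 0, -2, -2, -2, 0, 0, 0, 0, 1, 0, 1, -1, 0, 0, 0, 2, -1, 0, 0, 0, 2, -1, 0, -1, -2, 1, -1, 0, -2, 0, 0, -2],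
  [0, 0, 0, 0, 0, 0, 1, 0, 0, 0, 0, 0, 0, -1, 0, 0, 0, 0, 0, 1, 0, -1, -1, -1, 0, 0, 0, 0, 0, 0, 0, -2, 1, 1, 0, -1, 0, 0, 0, 2, -1, 0, -1, 1, -1, -1, 1, 2, -1, -2, 0, -2, -2, -2, -2, 0],
  [0, 0, 0, 0, 0, 0, 0, 1, 0, 0, 0, 0, 0, -1, 0, -1, 0, 1, 1, 0, 0, 0, -1, 0, 0, -2, 0, -2, 0, 0, 0, 0, 1, 1, 1, 0, 0, 0, 0, 0, 0, -1, 0, -1, 2, -1, -1, 0, 1, -1, 0, 1, -2, -2, 0, -2],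
  [0, 0, 0, 0, 0, 0, 0, 0, 1, 0, 0, 0, 0, 0, 0, 0, 0, 1, 1, 0, 0, 0, -1, 0, 0, -2, 1, 1, 0, 0, 0, 0, 0, 0, 0, 0, 0, 1, 1, 1, 0, 0, 0, -2, 2, 1, -1, 0, -1, 1, 0, 1, -2, 0, 1, -1],
  [0, 0, 0, 0, 0, 0, 0, 0, 0, 1, 0, 0, 0, 0, 0, 0, 0, 1, 1, 1, 0, -1, 0, -1, 0, -1, -1, -2, 0, 0, 0, -2, 0, 0, 0, 0, 1, 0, 1, -1, 0, 0, 0, -2, 1, 0, 0, 0, -2, 1, 0, 1, 0, -1, 1, 0],
  [0, 0, 0, 0, 0, 0, 0, 0, 0, 0, 1, 0, 0, 0, 0, 0, 0, 1, 0, 0, 0, 0, 0, -1, 0, -1, -1, -1, 0, 0, 0, -2, 0, 0, 0, 2, 1, 1, 0, -1, 0, 0, 0, -2, -1, 0, -1, -1, 1, -1, 1, -2, -1, -2, 0, -2],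
  [0, 0, 0, 0, 0, 0, 0, 0, 0, 0, 0, 1, 0, 0, 0, 0, 0, 1, 0, 1, 0, -1, -1, 0, 0, -2, 1, -2, 0, 0, 0, -2, 0, 0, 0, 0, 1, 1, 1, 0, 0, 0, 0, 0, 0, -1, 2, 1, -2, -1, 1, -2, -1, -1, 0, 1],
  [0, 0, 0, 0, 0, 0, 0, 0, 0, 0, 0, 0, -1, -1, -1, -1, 0, 0, 0, 0, 0, 0, 0, 0, 0, 0, 0, 0, 0, 0, 0, -2, 0, 0, 0, 2, 0, 0, 0, 2, -1, -1, -1, -1, 2, 2, 2, 0, -2, -2, -2, 0, -2, 0, 0, 0],
  [0, 0, 0, 0, 0, 0, 0, 0, 0, 0, 0, 0, 0, -2, 0, 0, 0, 0, 0, 0, 0, 0, 0, 0, 0, -2, 0, -2, 0, 0, 0, 0, 0, 0, 0, 0, 0, 0, 0, 0, 0, 0, 0, -2, 0, 2, 2, 0, 0, 0, 0, 0, -2, 0, -2, 0],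
  [0, 0, 0, 0, 0, 0, 0, 0, 0, 0, 0, 0, 0, 0, -2, 0, 0, 0, 0, 0, 0, 0, 0, 0, 0, 0, 0, -2, 0, 0, 0, 0, 0, 0, 0, 0, 0, 0, 0, 0, 0, 0, 0, -2, 0, 0, 2, 2, 0, 0, 0, 0, -2, 0, 0, 0],
  [0, 0, 0, 0, 0, 0, 0, 0, 0, 0, 0, 0, 0, 0, 0, -2, 0, 0, 0, 0, 0, 0, 0, 0, 0, -2, -2, 0, 0, 0, 0, 0, 0, 0, 0, 0, 0, 0, 0, 0, 0, 0, 0, -2, 2, 0, 0, 2, 0, 0, 0, 0, 0, -2, 0, -2],
  [0, 0, 0, 0, 0, 0, 0, 0, 0, 0, 0, 0, 0, 0, 0, 0, 1, 1, 1, 1, 0, 0, 0, 0, 0, 0, 0, 0, 0, 0, 0, -2, 0, 0, 0, 2, 0, 0, 0, 2, 0, 0, 0, -2, 1, -1, -1, 1, -2, 0, -2, -2, -2, -2, -2, 0],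
  [0, 0, 0, 0, 0, 0, 0, 0, 0, 0, 0, 0, 0, 0, 0, 0, 0, 2, 0, 0, 0, 0, 0, 0, 0, -2, -2, -2, 0, 0, 0, 0, 0, 0, 0, 0, 0, 0, 0, 0, 0, 0, 0, 0, 2, 0, 2, 2, 0, 0, 0, 0, -2, 0, 0, 0],
  [0, 0, 0, 0, 0, 0, 0, 0, 0, 0, 0, 0, 0, 0, 0, 0, 0, 0, 2, 0, 0, 0, 0, 0, 0, -2, 0, 0, 0, 0, 0, 0, 0, 0, 0, 0, 0, 0, 0, 0, 0, 0, 0, 0, 2, 2, 0, 2, 0, 0, 0, 0, -2, 0, -2, -2],
  [0, 0, 0, 0, 0, 0, 0, 0, 0, 0, 0, 0, 0, 0, 0, 0, 0, 0, 0, 2, 0, 0, 0, 0, 0, -2, 0, -2, 0, 0, 0, 0, 0, 0, 0, 0, 0, 0, 0, 0, 0, 0, 0, 0, 2, 2, 2, 0, 0, 0, 0, 0, 0, -2, 0, -2],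
  [0, 0, 0, 0, 0, 0, 0, 0, 0, 0, 0, 0, 0, 0, 0, 0, 0, 0, 0, 0, -1, -1, -1, -1, 0, 0, 0, 0, 0, 0, 0, -2, 0, 0, 0, 2, 0, 0, 0, 2, 0, 0, 0, -2, 2, 0, 2, 2, -1, -1, -1, -1, -2, 0, -2, -2],
  [0, 0, 0, 0, 0, 0, 0, 0, 0, 0, 0, 0, 0, 0, 0, 0, 0, 0, 0, 0, 0, -2, 0, 0, 0, 0, 0, -2, 0, 0, 0, 0, 0, 0, 0, 0, 0, 0, 0, 0, 0, 0, 0, 0, 0, 0, 0, 0, -2, 0, -2, -2, -2, -2, -2, 0],
  [0, 0, 0, 0, 0, 0, 0, 0, 0, 0, 0, 0, 0, 0, 0, 0, 0, 0, 0, 0, 0, 0, -2, 0, 0, 0, -2, -2, 0, 0, 0, 0, 0, 0, 0, 0, 0, 0, 0, 0, 0, 0, 0, 0, 0, 0, 0, 0, -2, -2, 0, -2, 0, 0, -2, -2],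
  [0, 0, 0, 0, 0, 0, 0, 0, 0, 0, 0, 0, 0, 0, 0, 0, 0, 0, 0, 0, 0, 0, 0, -2, 0, -2, -2, -2, 0, 0, 0, 0, 0, 0, 0, 0, 0, 0, 0, 0, 0, 0, 0, 0, 0, 0, 0, 0, -2, -2, -2, 0, -2, 0, 0, 0],
  [0, 0, 0, 0, 0, 0, 0, 0, 0, 0, 0, 0, 0, 0, 0, 0, 0, 0, 0, 0, 0, 0, 0, 0, -1, -1, -1, -1, 0, 0, 0, -2, 0, 0, 0, 2, 0, 0, 0, 2, 0, 0, 0, -2, 2, 0, 0, 0, 0, -2, -2, -2, -1, -1, -1, -1],
  [0, 0, 0, 0, 0, 0, 0, 0, 0, 0, 0, 0, 0, 0, 0, 0, 0, 0, 0, 0, 0, 0, 0, 0, 0, -4, 0, 0, 0, 0, 0, 0, 0, 0, 0, 0, 0, 0, 0, 0, 0, 0, 0, 0, 0, 0, 0, 0, 0, 0, 0, 0, 0, 0, 0, 0],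
  [0, 0, 0, 0, 0, 0, 0, 0, 0, 0, 0, 0, 0, 0, 0, 0, 0, 0, 0, 0, 0, 0, 0, 0, 0, 0, -4, 0, 0, 0, 0, 0, 0, 0, 0, 0, 0, 0, 0, 0, 0, 0, 0, 0, 0, 0, 0, 0, 0, 0, 0, 0, 0, 0, 0, 0],
  [0, 0, 0, 0, 0, 0, 0, 0, 0, 0, 0, 0, 0, 0, 0, 0, 0, 0, 0, 0, 0, 0, 0, 0, 0, 0, 0, -4, 0, 0, 0, 0, 0, 0, 0, 0, 0, 0, 0, 0, 0, 0, 0, 0, 0, 0, 0, 0, 0, 0, 0, 0, 0, 0, 0, 0],
  [0, 0, 0, 0, 0, 0, 0, 0, 0, 0, 0, 0, 0, 0, 0, 0, 0, 0, 0, 0, 0, 0, 0, 0, 0, 0, 0, 0, -1, 0, 0, 1, 1, 1, 0, 2, 0, 0, 1, -1, -1, 0, -1, -2, 2, 1, 1, 0, 0, 1, -2, 1, -1, -1, -1, -1],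
  [0, 0, 0, 0, 0, 0, 0, 0, 0, 0, 0, 0, 0, 0, 0, 0, 0, 0, 0, 0, 0, 0, 0, 0, 0, 0, 0, 0, 0, -1, 0, 1, 1, 1, 1, 1, 1, 0, 0, -1, -1, -1, 0, -2, 2, 2, 1, -1, -1, 0, 1, 0, -2, -1, -1, 0],
  [0, 0, 0, 0, 0, 0, 0, 0, 0, 0, 0, 0, 0, 0, 0, 0, 0, 0, 0, 0, 0, 0, 0, 0, 0, 0, 0, 0, 0, 0, -1, 1, 1, 0, 1, 2, 0, 1, 1, 2, 0, -1, 0, 1, 1, -1, -1, 1, 1, 0, -2, 1, 1, 1, -2, 0],
  [0, 0, 0, 0, 0, 0, 0, 0, 0, 0, 0, 0, 0, 0, 0, 0, 0, 0, 0, 0, 0, 0, 0, 0, 0, 0, 0, 0, 0, 0, 0, -4, 0, 0, 0, 0, 0, 0, 0, 0, 0, 0, 0, 0, 0, 0, 0, 0, 0, 0, 0, 0, 0, 0, 0, 0],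
  [0, 0, 0, 0, 0, 0, 0, 0, 0, 0, 0, 0, 0, 0, 0, 0, 0, 0, 0, 0, 0, 0, 0, 0, 0, 0, 0, 0, 0, 0, 0, 0, 2, 0, 0, 2, 0, 0, 0, 0, 0, 0, 0, 0, 0, 0, 0, 0, 0, -2, -2, 0, 0, -2, 0, -2],
  [0, 0, 0, 0, 0, 0, 0, 0, 0, 0, 0, 0, 0, 0, 0, 0, 0, 0, 0, 0, 0, 0, 0, 0, 0, 0, 0, 0, 0, 0, 0, 0, 0, 2, 0, 2, 0, 0, 0, 0, 0, 0, 0, 0, 0, 0, 0, 0, 0, 0, -2, -2, -2, 0, -2, 0],
  [0, 0, 0, 0, 0, 0, 0, 0, 0, 0, 0, 0, 0, 0, 0, 0, 0, 0, 0, 0, 0, 0, 0, 0, 0, 0, 0, 0, 0, 0, 0, 0, 0, 0, 2, 2, 0, 0, 0, 0, 0, 0, 0, 0, 0, 0, 0, 0, -2, -2, -2, -2, -2, 0, 0, -2],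
  [0, 0, 0, 0, 0, 0, 0, 0, 0, 0, 0, 0, 0, 0, 0, 0, 0, 0, 0, 0, 0, 0, 0, 0, 0, 0, 0, 0, 0, 0, 0, 0, 0, 0, 0, 4, 0, 0, 0, 0, 0, 0, 0, 0, 0, 0, 0, 0, 0, 0, 0, 0, 0, 0, 0, 0],
  [0, 0, 0, 0, 0, 0, 0, 0, 0, 0, 0, 0, 0, 0, 0, 0, 0, 0, 0, 0, 0, 0, 0, 0, 0, 0, 0, 0, 0, 0, 0, 0, 0, 0, 0, 0, 2, 0, 0, 2, 0, 0, 0, 0, 0, 0, 2, 2, -2, 0, -2, 0, 0, -2, -2, 0],
  [0, 0, 0, 0, 0, 0, 0, 0, 0, 0, 0, 0, 0, 0, 0, 0, 0, 0, 0, 0, 0, 0, 0, 0, 0, 0, 0, 0, 0, 0, 0, 0, 0, 0, 0, 0, 0, 2, 0, 2, 0, 0, 0, 0, 2, 0, 0, 2, -2, -2, 0, 0, 0, 0, -2, -2],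
  [0, 0, 0, 0, 0, 0, 0, 0, 0, 0, 0, 0, 0, 0, 0, 0, 0, 0, 0, 0, 0, 0, 0, 0, 0, 0, 0, 0, 0, 0, 0, 0, 0, 0, 0, 0, 0, 0, 2, 2, 0, 0, 0, 0, 0, 2, 2, 0, 0, -2, 0, -2, -2, -2, -2, -2],
  [0, 0, 0, 0, 0, 0, 0, 0, 0, 0, 0, 0, 0, 0, 0, 0, 0, 0, 0, 0, 0, 0, 0, 0, 0, 0, 0, 0, 0, 0, 0, 0, 0, 0, 0, 0, 0, 0, 0, 4, 0, 0, 0, 0, 0, 0, 0, 0, 0, 0, 0, 0, 0, 0, 0, 0],
  [0, 0, 0, 0, 0, 0, 0, 0, 0, 0, 0, 0, 0, 0, 0, 0, 0, 0, 0, 0, 0, 0, 0, 0, 0, 0, 0, 0, 0, 0, 0, 0, 0, 0, 0, 0, 0, 0, 0, 0, -2, 0, 0, -2, 2, 2, 0, 0, 0, 0, 0, 0, -2, 0, -2, 0],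
  [0, 0, 0, 0, 0, 0, 0, 0, 0, 0, 0, 0, 0, 0, 0, 0, 0, 0, 0, 0, 0, 0, 0, 0, 0, 0, 0, 0, 0, 0, 0, 0, 0, 0, 0, 0, 0, 0, 0, 0, 0, -2, 0, -2, 2, 2, 2, 2, 0, 0, 0, 0, -2, -2, 0, 0],
  [0, 0, 0, 0, 0, 0, 0, 0, 0, 0, 0, 0, 0, 0, 0, 0, 0, 0, 0, 0, 0, 0, 0, 0, 0, 0, 0, 0, 0, 0, 0, 0, 0, 0, 0, 0, 0, 0, 0, 0, 0, 0, -2, -2, 2, 0, 2, 0, 0, 0, 0, 0, 0, -2, 0, -2],
  [0, 0, 0, 0, 0, 0, 0, 0, 0, 0, 0, 0, 0, 0, 0, 0, 0, 0, 0, 0, 0, 0, 0, 0, 0, 0, 0, 0, 0, 0, 0, 0, 0, 0, 0, 0, 0, 0, 0, 0, 0, 0, 0, -4, 0, 0, 0, 0, 0, 0, 0, 0, 0, 0, 0, 0],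
  [0, 0, 0, 0, 0, 0, 0, 0, 0, 0, 0, 0, 0, 0, 0, 0, 0, 0, 0, 0, 0, 0, 0, 0, 0, 0, 0, 0, 0, 0, 0, 0, 0, 0, 0, 0, 0, 0, 0, 0, 0, 0, 0, 0, 4, 0, 0, 0, 0, 0, 0, 0, 0, 0, 0, 0],
  [0, 0, 0, 0, 0, 0, 0, 0, 0, 0, 0, 0, 0, 0, 0, 0, 0, 0, 0, 0, 0, 0, 0, 0, 0, 0, 0, 0, 0, 0, 0, 0, 0, 0, 0, 0, 0, 0, 0, 0, 0, 0, 0, 0, 0, 4, 0, 0, 0, 0, 0, 0, 0, 0, 0, 0],
  [0, 0, 0, 0, 0, 0, 0, 0, 0, 0, 0, 0, 0, 0, 0, 0, 0, 0, 0, 0, 0, 0, 0, 0, 0, 0, 0, 0, 0, 0, 0, 0, 0, 0, 0, 0, 0, 0, 0, 0, 0, 0, 0, 0, 0, 0, 4, 0, 0, 0, 0, 0, 0, 0, 0, 0],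
  [0, 0, 0, 0, 0, 0, 0, 0, 0, 0, 0, 0, 0, 0, 0, 0, 0, 0, 0, 0, 0, 0, 0, 0, 0, 0, 0, 0, 0, 0, 0, 0, 0, 0, 0, 0, 0, 0, 0, 0, 0, 0, 0, 0, 0, 0, 0, 4, 0, 0, 0, 0, 0, 0, 0, 0],
  [0, 0, 0, 0, 0, 0, 0, 0, 0, 0, 0, 0, 0, 0, 0, 0, 0, 0, 0, 0, 0, 0, 0, 0, 0, 0, 0, 0, 0, 0, 0, 0, 0, 0, 0, 0, 0, 0, 0, 0, 0, 0, 0, 0, 0, 0, 0, 0, -4, 0, 0, 0, 0, 0, 0, 0],
  [0, 0, 0, 0, 0, 0, 0, 0, 0, 0, 0, 0, 0, 0, 0, 0, 0, 0, 0, 0, 0, 0, 0, 0, 0, 0, 0, 0, 0, 0, 0, 0, 0, 0, 0, 0, 0, 0, 0, 0, 0, 0, 0, 0, 0, 0, 0, 0, 0, -4, 0, 0, 0, 0, 0, 0],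
  [0, 0, 0, 0, 0, 0, 0, 0, 0, 0, 0, 0, 0, 0, 0, 0, 0, 0, 0, 0, 0, 0, 0, 0, 0, 0, 0, 0, 0, 0, 0, 0, 0, 0, 0, 0, 0, 0, 0, 0, 0, 0, 0, 0, 0, 0, 0, 0, 0, 0, -4, 0, 0, 0, 0, 0],
  [0, 0, 0, 0, 0, 0, 0, 0, 0, 0, 0, 0, 0, 0, 0, 0, 0, 0, 0, 0, 0, 0, 0, 0, 0, 0, 0, 0, 0, 0, 0, 0, 0, 0, 0, 0, 0, 0, 0, 0, 0, 0, 0, 0, 0, 0, 0, 0, 0, 0, 0, -4, 0, 0, 0, 0],
  [0, 0, 0, 0, 0, 0, 0, 0, 0, 0, 0, 0, 0, 0, 0, 0, 0, 0, 0, 0, 0, 0, 0, 0, 0, 0, 0, 0, 0, 0, 0, 0, 0, 0, 0, 0, 0, 0, 0, 0, 0, 0, 0, 0, 0, 0, 0, 0, 0, 0, 0, 0, -4, 0, 0, 0],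
  [0, 0, 0, 0, 0, 0, 0, 0, 0, 0, 0, 0, 0, 0, 0, 0, 0, 0, 0, 0, 0, 0, 0, 0, 0, 0, 0, 0, 0, 0, 0, 0, 0, 0, 0, 0, 0, 0, 0, 0, 0, 0, 0, 0, 0, 0, 0, 0, 0, 0, 0, 0, 0, -4, 0, 0],
  [0, 0, 0, 0, 0, 0, 0, 0, 0, 0, 0, 0, 0, 0, 0, 0, 0, 0, 0, 0, 0, 0, 0, 0, 0, 0, 0, 0, 0, 0, 0, 0, 0, 0, 0, 0, 0, 0, 0, 0, 0, 0, 0, 0, 0, 0, 0, 0, 0, 0, 0, 0, 0, 0, -4, 0],
  [0, 0, 0, 0, 0, 0, 0, 0, 0, 0, 0, 0, 0, 0, 0, 0, 0, 0, 0, 0, 0, 0, 0, 0, 0, 0, 0, 0, 0, 0, 0, 0, 0, 0, 0, 0, 0, 0, 0, 0, 0, 0, 0, 0, 0, 0, 0, 0, 0, 0, 0, 0, 0, 0, 0, -4]]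

/-- The images of the basis in the basis. -/
def combShift : List (List (ℕ × ℤ)) := [
  [(10, 1), (23, -1), (24, 1), (29, 1), (31, -1), (35, -1), (36, -1), (39, 1), (41, -1), (43, -1), (46, 1), (47, 2), (48, 1), (50, 1), (51, -1), (55, -1)],
  [(9, 1), (11, 1), (17, -1), (19, -1), (21, -1), (23, -1), (25, 1), (26, 1), (27, 1), (29, 1), (30, 1), (32, -1), (34, -1), (36, -1), (37, -1), (38, -1), (39, 2), (40, -1), (41, -1), (42, 1), (44, 1), (45, 2), (46, 2), (47, 2), (48, 2), (49, 3), (50, 3), (51, 2), (52, 3), (53, 2), (54, 2), (55, 2)],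
  [(11, 1), (23, 1), (25, -1), (27, -1), (30, 1), (37, -1), (38, -1), (39, 1), (40, 1), (41, -1), (45, 1), (46, 1), (47, 1), (50, -1), (53, 1), (55, 1)],
  [(9, 1), (10, 1), (17, -1), (28, 1), (31, -1), (35, -1), (36, -1), (38, -1), (39, 2), (41, 1), (42, -1), (43, -1), (46, 2), (47, 1), (49, 1), (51, 1), (54, 1)],
  [(0, 1), (9, 1), (10, 1), (17, -1), (29, 1), (30, 1), (32, -1), (33, -1), (34, -1), (35, 1), (36, -2), (37, -1), (38, -1), (39, 2), (41, -1), (42, 1), (43, -2), (45, 1), (46, 2), (47, 3), (48, 2), (49, 2), (50, 3), (51, 1), (52, 2), (53, 1), (54, 2), (55, 1)],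
  [(1, 1), (9, 1), (10, 1), (11, 1), (17, -1), (19, -1), (28, 1), (30, 1), (31, -1), (32, -1), (33, -1), (34, -1), (36, -1), (37, -2), (38, -2), (39, 3), (41, -1), (42, -1), (43, -1), (44, 3), (45, 2), (46, 3), (47, 2), (48, 2), (49, 3), (50, 1), (51, 2), (52, 2), (53, 2), (54, 2), (55, 3)],
  [(2, 1), (9, 1), (21, -1), (23, -1), (28, 1), (29, 1), (32, -1), (33, -1), (34, -1), (35, 1), (36, -1), (38, -1), (39, 1), (40, -2), (41, -1), (45, 2), (46, 1), (47, 2), (48, 2), (49, 3), (50, 3), (51, 2), (52, 3), (53, 2), (54, 3), (55, 2)],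
  [(3, 1), (9, 1), (11, 1), (17, -1), (19, -1), (22, -1), (26, 1), (28, 1), (29, 1), (30, 1), (32, -2), (33, -1), (34, -1), (35, 1), (36, -2), (37, -1), (38, -2), (39, 3), (41, -2), (42, -1), (44, 1), (45, 2), (46, 4), (47, 2), (48, 2), (49, 4), (50, 2), (51, 3), (52, 3), (53, 4), (54, 3), (55, 4)],
  [(4, 1), (21, 1), (22, -1), (23, -1), (26, 1), (40, 1), (42, -1), (45, -1), (48, 1), (49, 1), (52, -1), (54, -1), (55, 1)],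
  [(5, 1), (23, 1), (25, -1), (26, -1), (27, -1), (48, -1), (50, -1), (52, -1)],
  [(6, 1), (40, -1), (42, -1), (43, 1), (44, 1), (45, 1), (55, 1)],
  [(7, 1), (21, 1), (22, -1), (23, 1), (25, -1), (27, -1), (41, -1), (42, 1), (45, 1), (47, 1), (50, -1), (52, -1), (53, -1)],
  [(8, 1), (9, 1), (10, 1), (11, 1), (17, -2), (18, -1), (19, -1), (21, -1), (22, -1), (23, -1), (25, 1), (26, 2), (27, 2), (31, -1), (36, -1), (37, -1), (38, -1), (39, 2), (40, 1), (41, 1), (42, 1), (43, -3), (44, 1), (45, 1), (46, 2), (47, 2), (48, 2), (49, 2), (50, 2), (51, 1), (52, 1), (54, 3), (55, 2)],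
  [(9, 2), (17, -1), (18, -1), (19, -1), (25, 1), (31, -1), (36, -1), (38, -1), (39, 2), (41, 1), (42, 1), (43, -2), (45, 1), (46, 1), (47, 1), (49, 1), (50, 1), (51, 1), (52, 1), (54, 2), (55, 1)],
  [(10, 2), (17, -1), (31, -1), (35, -1), (36, -1), (37, -1), (39, 2), (42, 1), (43, -1), (44, 1), (46, 1), (47, 2), (48, 2), (50, 1), (51, -1), (53, -1), (54, 1), (55, -1)],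
  [(11, 2), (17, -1), (19, -1), (26, 1), (31, -1), (36, -1), (37, -1), (38, -1), (39, 2), (40, 1), (44, 1), (45, 1), (46, 1), (47, 1), (49, 1), (50, 1), (53, 1), (54, 1), (55, 2)],
  [(12, 1), (41, -1), (42, -1), (43, 1), (44, 1), (46, 1), (47, 1), (53, 1), (55, 1)],
  [(13, 1), (21, 1), (22, 1), (23, 1), (25, -1), (26, -1), (27, -2), (40, 1), (42, 1), (43, -1), (44, -1), (45, -1), (46, -1), (48, -1), (49, -1), (50, -1), (51, -1), (52, -2), (53, -1), (54, -2), (55, -1)],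
  [(14, 1), (21, 1), (27, -1), (40, 1), (41, 1), (43, -1), (44, -1), (45, -1), (46, -1), (47, -1), (52, -2), (53, -1), (54, -1)],
  [(15, 1), (21, 1), (23, 1), (25, -1), (26, -1), (27, -1), (40, 1), (41, 1), (42, 1), (43, -2), (44, -2), (45, -1), (46, -1), (47, -1), (48, -1), (50, -1), (52, -2), (53, -2), (54, -1), (55, -1)],
  [(16, 1), (40, 1), (42, 1), (43, -1), (44, -1), (52, -1), (53, -1), (54, -1)],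
  [(17, 1), (23, 1), (25, -1), (26, -1), (27, -1), (52, -1)],
  [(18, 1), (22, 1), (23, 1), (25, -1), (26, -1), (27, -1), (48, -1), (49, -1), (52, -1), (54, -1), (55, -1)],
  [(19, 1), (21, 1), (22, 1), (23, 1), (25, -1), (26, -1), (27, -2), (48, -1), (49, -1), (50, -1), (51, -1), (52, -1), (53, -1), (54, -1), (55, -1)],
  [(20, 1), (40, 1), (43, -1), (44, -1), (52, -1), (54, -1)],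
  [(21, 2), (27, -1), (48, -1), (50, -1), (51, -1), (52, -1), (53, -1), (54, -1)],
  [(22, 2), (26, -1), (27, -1), (48, -1), (49, -1), (51, -1), (54, -1), (55, -1)],
  [(23, 2), (25, -1), (26, -1), (27, -1), (48, -1), (49, -1), (50, -1), (52, -1)],
  [(28, 1), (29, 1), (31, 1), (32, -1), (33, -1), (39, 1), (43, -1), (44, -1), (45, -1), (49, 1), (50, 1), (51, 1)],
  [(28, 1), (29, 1), (30, 1), (31, 1), (32, -1), (33, -1), (34, -1), (38, -1), (39, 1), (43, -1), (44, -1), (48, 1), (49, 2), (50, 1), (51, 2), (52, 1), (53, 1), (55, 1)],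
  [(28, 1), (30, 1), (31, 1), (32, -1), (38, -1), (41, -1), (42, -1), (43, 1), (45, 1), (46, 2), (49, 1), (51, 1), (52, 1), (53, 2), (55, 1)],
  [(55, 1)],
  [(28, 2), (31, 1), (32, -1), (33, -1), (38, -1), (39, 1), (40, -1), (42, -1), (45, 1), (46, 1), (49, 2), (51, 2), (52, 1), (53, 1), (54, 1), (55, 1)],
  [(29, 2), (31, 1), (32, -1), (33, -1), (34, -1), (35, 1), (36, -1), (39, 1), (40, -1), (41, -1), (46, 1), (47, 2), (48, 1), (49, 1), (50, 3), (51, 1), (52, 1), (53, 1), (54, 1), (55, 1)],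
  [(30, 2), (31, 1), (32, -1), (34, -1), (37, -1), (38, -1), (41, -1), (43, 1), (44, 1), (45, 2), (46, 2), (47, 1), (48, 2), (49, 2), (51, 2), (52, 2), (53, 2), (55, 2)],
  [(31, 1)],
  [(32, 1), (42, 1), (53, -1), (55, -1)],
  [(33, 1), (40, 1), (52, -1), (54, -1)],
  [(34, 1), (41, 1), (42, 1), (43, -1), (44, -1), (46, -1), (52, -1), (53, -1), (55, -1)],
  [(35, 1)],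
  [(36, 1), (40, 1), (41, 1), (43, -1), (44, -1), (45, -1), (46, -1), (47, -1), (52, -1), (53, -1), (54, -1)],
  [(37, 1), (40, 1), (41, 1), (42, 1), (43, -1), (44, -2), (45, -1), (46, -1), (47, -1), (52, -1), (53, -1), (54, -1), (55, -1)],
  [(38, 1), (40, 1), (42, 1), (43, -1), (44, -1), (45, -1), (46, -1), (52, -1), (53, -1), (54, -1), (55, -1)],
  [(39, 1)],
  [(40, 2), (43, -1), (44, -1), (45, -1), (52, -1), (54, -1)],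
  [(41, 2), (43, -1), (44, -1), (45, -1), (46, -1), (47, -1), (52, -1), (53, -1)],
  [(42, 2), (43, -1), (44, -1), (46, -1), (53, -1), (55, -1)],
  [(43, 1)],
  [(44, 1)],
  [(45, 1)],
  [(46, 1)],
  [(47, 1)],
  [(48, 1)],
  [(49, 1)],
  [(50, 1)],
  [(51, 1)]]

/-- The images of the basis. -/
def imgShift : List (List ℤ) := [
  [0, 0, 0, 0, 0, 0, 0, 0, 0, 0, 1, 0, 0, 0, 0, 0, 0, 1, 0, 0, 0, 0, 0, -1, 1, 0, 0, 0, 0, 1, 0, -1, 1, 1, 1, 1, 0, 1, 0, 2, 1, -1, 0, 0, 1, 0, 0, 2, 0, 1, 0, 0, 0, 0, 0, -1],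
  [0, 0, 0, 0, 0, 0, 0, 0, 0, 1, 0, 1, 0, 0, 0, 0, 0, 0, 1, 0, 0, 0, 1, -1, 0, 1, 0, 0, 0, 1, 1, 2, 0, 1, 0, -1, 1, 0, 1, 2, -1, 0, 2, 1, 0, 0, 2, 1, 2, 2, 2, 2, 0, 0, 0, -1],
  [0, 0, 0, 0, 0, 0, 0, 0, 0, 0, 0, 1, 0, 0, 0, 0, 0, 1, 0, 1, 0, 1, 1, 2, 0, 0, 1, 0, 0, 0, 1, 1, 1, 0, 1, 2, 1, 0, 0, 2, 2, -1, 0, -1, -1, 0, 1, 2, 1, -1, -1, -1, 0, 0, 0, -1],
  [0, 0, 0, 0, 0, 0, 0, 0, 0, 1, 1, 0, 0, 0, 0, 0, 0, 0, 1, 1, 0, 1, 0, 2, 0, 0, 0, 1, 1, 0, 0, -1, 1, 1, 0, 0, 0, 1, 0, 1, 1, 2, -1, 2, 0, 1, 2, 1, -1, 1, -1, 2, 0, 0, 0, -1],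
  [1, 0, 0, 0, 0, 0, 0, 0, 0, 1, 1, 0, 0, 0, 1, 0, 0, 0, 1, 1, 0, 2, 0, 2, 0, 0, 0, 0, 0, 1, 1, 1, 0, 0, 0, 2, 0, 1, 1, 0, 1, 1, 2, -1, 0, 0, -1, 1, 2, 0, 2, 0, 0, 0, 0, 0],
  [0, 1, 0, 0, 0, 0, 0, 0, 0, 1, 1, 1, 0, 1, 0, 1, 0, 1, 1, 0, 0, 2, 2, 2, 0, 0, 0, 0, 1, 0, 1, -1, 0, 0, 0, 2, 1, 0, 0, 0, 2, -1, 0, -1, 2, -1, 1, 0, 2, 0, 0, 2, 0, 0, 0, 0],
  [0, 0, 1, 0, 0, 0, 0, 0, 0, 1, 0, 0, 0, 0, 0, 1, 0, 1, 1, 1, 0, 0, 0, 0, 0, 0, 0, 0, 1, 1, 0, -1, 0, 0, 0, 2, 1, 0, 1, -1, -1, -1, 1, 2, 1, 2, 0, 2, 2, 2, 2, 0, 0, 0, 0, 2],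
  [0, 0, 0, 1, 0, 0, 0, 0, 0, 1, 0, 1, 0, 1, 1, 0, 0, 0, 1, 0, 0, 2, 0, 2, 0, 0, 0, 0, 1, 1, 1, 0, 0, 0, 0, 0, 0, 1, 0, 1, 2, -1, -1, 0, -1, 1, 0, -1, 2, 2, 0, 2, 0, 0, 0, 0],
  [0, 0, 0, 0, 1, 0, 0, 0, 0, 0, 0, 0, 0, 1, 1, 0, 0, 0, 1, 0, 0, 2, -1, -1, 0, 0, 0, 0, 0, 0, 0, 0, 0, 1, 1, 1, 0, 0, 0, 2, 2, 1, -1, 0, 1, -1, 0, -1, 2, 0, -1, 1, 0, 0, 0, 0],
  [0, 0, 0, 0, 0, 1, 0, 0, 0, 0, 0, 0, 0, 1, 1, 1, 0, 1, 0, 1, 0, 1, 1, 2, 0, 0, 0, 0, 0, 0, 0, 0, 1, 0, 1, -1, 0, 0, 0, 2, 1, 0, 0, 0, 2, -1, 0, -1, 0, 1, -1, 0, 0, 0, 0, 2],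
  [0, 0, 0, 0, 0, 0, 1, 0, 0, 0, 0, 0, 0, 1, 0, 0, 0, 0, 0, 1, 0, 1, 1, 1, 0, 0, 0, 0, 0, 0, 0, 2, 1, 1, 0, -1, 0, 0, 0, 2, -1, 0, -1, -1, -1, 1, -1, 2, 1, 2, 0, 2, 0, 0, 0, 2],
  [0, 0, 0, 0, 0, 0, 0, 1, 0, 0, 0, 0, 0, 1, 0, 1, 0, 1, 1, 0, 0, 2, -1, 2, 0, 0, 0, 0, 0, 0, 0, 0, 1, 1, 1, 0, 0, 0, 0, 0, 0, -1, 2, 1, 2, 1, -1, 2, 1, 1, 0, -1, 0, 0, 0, 2],
  [0, 0, 0, 0, 0, 0, 0, 0, 1, 1, 1, 1, 0, 0, 0, 0, 0, 0, 0, 0, 0, 0, 0, 0, 0, 0, 0, 0, 0, 0, 0, 2, 0, 0, 0, 2, 1, 1, 1, 1, 2, 2, 2, 0, 2, 2, 2, 0, 2, 0, 0, 0, 0, 0, 0, 2],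
  [0, 0, 0, 0, 0, 0, 0, 0, 0, 2, 0, 0, 0, 0, 0, 0, 0, 0, 0, 0, 0, 2, 0, 2, 0, 0, 0, 0, 0, 0, 0, 0, 0, 0, 0, 0, 0, 0, 0, 2, 0, 2, 2, 0, 0, 0, 0, 0, 2, 0, 2, 0, 0, 0, 0, 0],
  [0, 0, 0, 0, 0, 0, 0, 0, 0, 0, 2, 0, 0, 0, 0, 0, 0, 0, 0, 0, 0, 0, 0, 2, 0, 0, 0, 0, 0, 0, 0, 0, 0, 0, 0, 0, 0, 0, 0, 2, 0, 0, 2, 2, 0, 0, 0, 0, 2, 0, 0, 0, 0, 0, 0, 0],
  [0, 0, 0, 0, 0, 0, 0, 0, 0, 0, 0, 2, 0, 0, 0, 0, 0, 0, 0, 0, 0, 2, 2, 0, 0, 0, 0, 0, 0, 0, 0, 0, 0, 0, 0, 0, 0, 0, 0, 2, 2, 0, 0, 2, 0, 0, 0, 0, 0, 2, 0, 2, 0, 0, 0, 0],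
  [0, 0, 0, 0, 0, 0, 0, 0, 0, 0, 0, 0, 1, 1, 1, 1, 0, 0, 0, 0, 0, 0, 0, 0, 0, 0, 0, 0, 0, 0, 0, 2, 0, 0, 0, 2, 0, 0, 0, 2, 1, -1, -1, 1, 2, 0, 2, 2, 2, 2, 2, 0, 0, 0, 0, 2],
  [0, 0, 0, 0, 0, 0, 0, 0, 0, 0, 0, 0, 0, 2, 0, 0, 0, 0, 0, 0, 0, 2, 2, 2, 0, 0, 0, 0, 0, 0, 0, 0, 0, 0, 0, 0, 0, 0, 0, 0, 2, 0, 2, 2, 0, 0, 0, 0, 2, 0, 0, 0, 0, 0, 0, 0],
  [0, 0, 0, 0, 0, 0, 0, 0, 0, 0, 0, 0, 0, 0, 2, 0, 0, 0, 0, 0, 0, 2, 0, 0, 0, 0, 0, 0, 0, 0, 0, 0, 0, 0, 0, 0, 0, 0, 0, 0, 2, 2, 0, 2, 0, 0, 0, 0, 2, 0, 2, 2, 0, 0, 0, 0],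
  [0, 0, 0, 0, 0, 0, 0, 0, 0, 0, 0, 0, 0, 0, 0, 2, 0, 0, 0, 0, 0, 2, 0, 2, 0, 0, 0, 0, 0, 0, 0, 0, 0, 0, 0, 0, 0, 0, 0, 0, 2, 2, 2, 0, 0, 0, 0, 0, 0, 2, 0, 2, 0, 0, 0, 0],
  [0, 0, 0, 0, 0, 0, 0, 0, 0, 0, 0, 0, 0, 0, 0, 0, 1, 1, 1, 1, 0, 0, 0, 0, 0, 0, 0, 0, 0, 0, 0, 2, 0, 0, 0, 2, 0, 0, 0, 2, 2, 0, 2, 2, 1, 1, 1, 1, 2, 0, 2, 2, 0, 0, 0, 2],
  [0, 0, 0, 0, 0, 0, 0, 0, 0, 0, 0, 0, 0, 0, 0, 0, 0, 2, 0, 0, 0, 0, 0, 2, 0, 0, 0, 0, 0, 0, 0, 0, 0, 0, 0, 0, 0, 0, 0, 0, 0, 0, 0, 0, 2, 0, 2, 2, 2, 2, 2, 0, 0, 0, 0, 0],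
  [0, 0, 0, 0, 0, 0, 0, 0, 0, 0, 0, 0, 0, 0, 0, 0, 0, 0, 2, 0, 0, 0, 2, 2, 0, 0, 0, 0, 0, 0, 0, 0, 0, 0, 0, 0, 0, 0, 0, 0, 0, 0, 0, 0, 2, 2, 0, 2, 0, 0, 2, 2, 0, 0, 0, 0],
  [0, 0, 0, 0, 0, 0, 0, 0, 0, 0, 0, 0, 0, 0, 0, 0, 0, 0, 0, 2, 0, 2, 2, 2, 0, 0, 0, 0, 0, 0, 0, 0, 0, 0, 0, 0, 0, 0, 0, 0, 0, 0, 0, 0, 2, 2, 2, 0, 2, 0, 0, 0, 0, 0, 0, 0],
  [0, 0, 0, 0, 0, 0, 0, 0, 0, 0, 0, 0, 0, 0, 0, 0, 0, 0, 0, 0, 1, 1, 1, 1, 0, 0, 0, 0, 0, 0, 0, 2, 0, 0, 0, 2, 0, 0, 0, 2, 2, 0, 0, 0, 0, 2, 2, 2, 1, 1, 1, 1, 0, 0, 0, 2],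
  [0, 0, 0, 0, 0, 0, 0, 0, 0, 0, 0, 0, 0, 0, 0, 0, 0, 0, 0, 0, 0, 4, 0, 0, 0, 0, 0, 0, 0, 0, 0, 0, 0, 0, 0, 0, 0, 0, 0, 0, 0, 0, 0, 0, 0, 0, 0, 0, 0, 0, 0, 0, 0, 0, 0, 0],
  [0, 0, 0, 0, 0, 0, 0, 0, 0, 0, 0, 0, 0, 0, 0, 0, 0, 0, 0, 0, 0, 0, 4, 0, 0, 0, 0, 0, 0, 0, 0, 0, 0, 0, 0, 0, 0, 0, 0, 0, 0, 0, 0, 0, 0, 0, 0, 0, 0, 0, 0, 0, 0, 0, 0, 0],
  [0, 0, 0, 0, 0, 0, 0, 0, 0, 0, 0, 0, 0, 0, 0, 0, 0, 0, 0, 0, 0, 0, 0, 4, 0, 0, 0, 0, 0, 0, 0, 0, 0, 0, 0, 0, 0, 0, 0, 0, 0, 0, 0, 0, 0, 0, 0, 0, 0, 0, 0, 0, 0, 0, 0, 0],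
  [0, 0, 0, 0, 0, 0, 0, 0, 0, 0, 0, 0, 0, 0, 0, 0, 0, 0, 0, 0, 0, 0, 0, 0, 0, 0, 0, 0, 1, 1, 0, 2, 0, 0, 1, -1, 1, 0, 1, 2, 2, 1, 1, 0, 0, -1, 2, -1, 1, 1, 1, 1, 1, 0, 0, -1],
  [0, 0, 0, 0, 0, 0, 0, 0, 0, 0, 0, 0, 0, 0, 0, 0, 0, 0, 0, 0, 0, 0, 0, 0, 0, 0, 0, 0, 1, 1, 1, 1, 1, 0, 0, -1, 1, 1, 0, 2, 2, 2, 1, -1, 1, 0, -1, 0, 2, 1, 1, 0, 0, 1, 0, -1],
  [0, 0, 0, 0, 0, 0, 0, 0, 0, 0, 0, 0, 0, 0, 0, 0, 0, 0, 0, 0, 0, 0, 0, 0, 0, 0, 0, 0, 1, 0, 1, 2, 0, 1, 1, 2, 0, 1, 0, -1, 1, -1, -1, 1, -1, 0, 2, -1, -1, -1, 2, 0, 0, 0, 1, -1],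
  [0, 0, 0, 0, 0, 0, 0, 0, 0, 0, 0, 0, 0, 0, 0, 0, 0, 0, 0, 0, 0, 0, 0, 0, 0, 0, 0, 0, 0, 0, 0, 0, 0, 0, 0, 0, 0, 0, 0, 0, 0, 0, 0, 0, 0, 0, 0, 0, 0, 0, 0, 0, 0, 0, 0, 4],
  [0, 0, 0, 0, 0, 0, 0, 0, 0, 0, 0, 0, 0, 0, 0, 0, 0, 0, 0, 0, 0, 0, 0, 0, 0, 0, 0, 0, 2, 0, 0, 2, 0, 0, 0, 0, 0, 0, 0, 0, 0, 0, 0, 0, 0, 2, 2, 0, 0, 2, 0, 2, 0, 0, 0, 0],
  [0, 0, 0, 0, 0, 0, 0, 0, 0, 0, 0, 0, 0, 0, 0, 0, 0, 0, 0, 0, 0, 0, 0, 0, 0, 0, 0, 0, 0, 2, 0, 2, 0, 0, 0, 0, 0, 0, 0, 0, 0, 0, 0, 0, 0, 0, 2, 2, 2, 0, 2, 0, 0, 0, 0, 0],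
  [0, 0, 0, 0, 0, 0, 0, 0, 0, 0, 0, 0, 0, 0, 0, 0, 0, 0, 0, 0, 0, 0, 0, 0, 0, 0, 0, 0, 0, 0, 2, 2, 0, 0, 0, 0, 0, 0, 0, 0, 0, 0, 0, 0, 2, 2, 2, 2, 2, 0, 0, 2, 0, 0, 0, 0],
  [0, 0, 0, 0, 0, 0, 0, 0, 0, 0, 0, 0, 0, 0, 0, 0, 0, 0, 0, 0, 0, 0, 0, 0, 0, 0, 0, 0, 0, 0, 0, 4, 0, 0, 0, 0, 0, 0, 0, 0, 0, 0, 0, 0, 0, 0, 0, 0, 0, 0, 0, 0, 0, 0, 0, 0],
  [0, 0, 0, 0, 0, 0, 0, 0, 0, 0, 0, 0, 0, 0, 0, 0, 0, 0, 0, 0, 0, 0, 0, 0, 0, 0, 0, 0, 0, 0, 0, 0, 2, 0, 0, 2, 0, 0, 0, 0, 0, 0, 2, 2, 2, 0, 2, 0, 0, 2, 2, 0, 0, 0, 0, 0],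
  [0, 0, 0, 0, 0, 0, 0, 0, 0, 0, 0, 0, 0, 0, 0, 0, 0, 0, 0, 0, 0, 0, 0, 0, 0, 0, 0, 0, 0, 0, 0, 0, 0, 2, 0, 2, 0, 0, 0, 0, 2, 0, 0, 2, 2, 2, 0, 0, 0, 0, 2, 2, 0, 0, 0, 0],
  [0, 0, 0, 0, 0, 0, 0, 0, 0, 0, 0, 0, 0, 0, 0, 0, 0, 0, 0, 0, 0, 0, 0, 0, 0, 0, 0, 0, 0, 0, 0, 0, 0, 0, 2, 2, 0, 0, 0, 0, 0, 2, 2, 0, 0, 2, 0, 2, 2, 2, 2, 2, 0, 0, 0, 0],
  [0, 0, 0, 0, 0, 0, 0, 0, 0, 0, 0, 0, 0, 0, 0, 0, 0, 0, 0, 0, 0, 0, 0, 0, 0, 0, 0, 0, 0, 0, 0, 0, 0, 0, 0, 4, 0, 0, 0, 0, 0, 0, 0, 0, 0, 0, 0, 0, 0, 0, 0, 0, 0, 0, 0, 0],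
  [0, 0, 0, 0, 0, 0, 0, 0, 0, 0, 0, 0, 0, 0, 0, 0, 0, 0, 0, 0, 0, 0, 0, 0, 0, 0, 0, 0, 0, 0, 0, 0, 0, 0, 0, 0, 2, 0, 0, 2, 2, 2, 0, 0, 0, 0, 0, 0, 2, 0, 2, 0, 0, 0, 0, 0],
  [0, 0, 0, 0, 0, 0, 0, 0, 0, 0, 0, 0, 0, 0, 0, 0, 0, 0, 0, 0, 0, 0, 0, 0, 0, 0, 0, 0, 0, 0, 0, 0, 0, 0, 0, 0, 0, 2, 0, 2, 2, 2, 2, 2, 0, 0, 0, 0, 2, 2, 0, 0, 0, 0, 0, 0],
  [0, 0, 0, 0, 0, 0, 0, 0, 0, 0, 0, 0, 0, 0, 0, 0, 0, 0, 0, 0, 0, 0, 0, 0, 0, 0, 0, 0, 0, 0, 0, 0, 0, 0, 0, 0, 0, 0, 2, 2, 2, 0, 2, 0, 0, 0, 0, 0, 0, 2, 0, 2, 0, 0, 0, 0],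
  [0, 0, 0, 0, 0, 0, 0, 0, 0, 0, 0, 0, 0, 0, 0, 0, 0, 0, 0, 0, 0, 0, 0, 0, 0, 0, 0, 0, 0, 0, 0, 0, 0, 0, 0, 0, 0, 0, 0, 4, 0, 0, 0, 0, 0, 0, 0, 0, 0, 0, 0, 0, 0, 0, 0, 0],
  [0, 0, 0, 0, 0, 0, 0, 0, 0, 0, 0, 0, 0, 0, 0, 0, 0, 0, 0, 0, 0, 0, 0, 0, 0, 0, 0, 0, 0, 0, 0, 0, 0, 0, 0, 0, 0, 0, 0, 0, 4, 0, 0, 0, 0, 0, 0, 0, 0, 0, 0, 0, 0, 0, 0, 0],
  [0, 0, 0, 0, 0, 0, 0, 0, 0, 0, 0, 0, 0, 0, 0, 0, 0, 0, 0, 0, 0, 0, 0, 0, 0, 0, 0, 0, 0, 0, 0, 0, 0, 0, 0, 0, 0, 0, 0, 0, 0, 4, 0, 0, 0, 0, 0, 0, 0, 0, 0, 0, 0, 0, 0, 0],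
  [0, 0, 0, 0, 0, 0, 0, 0, 0, 0, 0, 0, 0, 0, 0, 0, 0, 0, 0, 0, 0, 0, 0, 0, 0, 0, 0, 0, 0, 0, 0, 0, 0, 0, 0, 0, 0, 0, 0, 0, 0, 0, 4, 0, 0, 0, 0, 0, 0, 0, 0, 0, 0, 0, 0, 0],
  [0, 0, 0, 0, 0, 0, 0, 0, 0, 0, 0, 0, 0, 0, 0, 0, 0, 0, 0, 0, 0, 0, 0, 0, 0, 0, 0, 0, 0, 0, 0, 0, 0, 0, 0, 0, 0, 0, 0, 0, 0, 0, 0, 4, 0, 0, 0, 0, 0, 0, 0, 0, 0, 0, 0, 0],
  [0, 0, 0, 0, 0, 0, 0, 0, 0, 0, 0, 0, 0, 0, 0, 0, 0, 0, 0, 0, 0, 0, 0, 0, 0, 0, 0, 0, 0, 0, 0, 0, 0, 0, 0, 0, 0, 0, 0, 0, 0, 0, 0, 0, 4, 0, 0, 0, 0, 0, 0, 0, 0, 0, 0, 0],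
  [0, 0, 0, 0, 0, 0, 0, 0, 0, 0, 0, 0, 0, 0, 0, 0, 0, 0, 0, 0, 0, 0, 0, 0, 0, 0, 0, 0, 0, 0, 0, 0, 0, 0, 0, 0, 0, 0, 0, 0, 0, 0, 0, 0, 0, 4, 0, 0, 0, 0, 0, 0, 0, 0, 0, 0],
  [0, 0, 0, 0, 0, 0, 0, 0, 0, 0, 0, 0, 0, 0, 0, 0, 0, 0, 0, 0, 0, 0, 0, 0, 0, 0, 0, 0, 0, 0, 0, 0, 0, 0, 0, 0, 0, 0, 0, 0, 0, 0, 0, 0, 0, 0, 4, 0, 0, 0, 0, 0, 0, 0, 0, 0],
  [0, 0, 0, 0, 0, 0, 0, 0, 0, 0, 0, 0, 0, 0, 0, 0, 0, 0, 0, 0, 0, 0, 0, 0, 0, 0, 0, 0, 0, 0, 0, 0, 0, 0, 0, 0, 0, 0, 0, 0, 0, 0, 0, 0, 0, 0, 0, 4, 0, 0, 0, 0, 0, 0, 0, 0],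
  [0, 0, 0, 0, 0, 0, 0, 0, 0, 0, 0, 0, 0, 0, 0, 0, 0, 0, 0, 0, 0, 0, 0, 0, 0, 0, 0, 0, 0, 0, 0, 0, 0, 0, 0, 0, 0, 0, 0, 0, 0, 0, 0, 0, 0, 0, 0, 0, 4, 0, 0, 0, 0, 0, 0, 0],
  [0, 0, 0, 0, 0, 0, 0, 0, 0, 0, 0, 0, 0, 0, 0, 0, 0, 0, 0, 0, 0, 0, 0, 0, 0, 0, 0, 0, 0, 0, 0, 0, 0, 0, 0, 0, 0, 0, 0, 0, 0, 0, 0, 0, 0, 0, 0, 0, 0, 4, 0, 0, 0, 0, 0, 0],
  [0, 0, 0, 0, 0, 0, 0, 0, 0, 0, 0, 0, 0, 0, 0, 0, 0, 0, 0, 0, 0, 0, 0, 0, 0, 0, 0, 0, 0, 0, 0, 0, 0, 0, 0, 0, 0, 0, 0, 0, 0, 0, 0, 0, 0, 0, 0, 0, 0, 0, 4, 0, 0, 0, 0, 0],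
  [0, 0, 0, 0, 0, 0, 0, 0, 0, 0, 0, 0, 0, 0, 0, 0, 0, 0, 0, 0, 0, 0, 0, 0, 0, 0, 0, 0, 0, 0, 0, 0, 0, 0, 0, 0, 0, 0, 0, 0, 0, 0, 0, 0, 0, 0, 0, 0, 0, 0, 0, 4, 0, 0, 0, 0]]

/-- The basis modulo two. -/
def parity : List ℕ := [9344725838479361, 2416342363840514, 69138788061839364, 34439150211981320, 3577870979194896, 1865927073914912, 418961190035520, 3212803045761152, 57245935667118336, 29854833182638592, 6703379040568320, 51404848732178432, 16492674478080, 0, 0, 0, 263882791649280, 0, 0, 0, 4222124666388480, 0, 0, 0, 67553994662215680, 0, 0, 0, 70480634786611200, 28644062999347200, 16319388592373760, 0, 0, 0, 0, 0, 0, 0, 0, 0, 0, 0, 0, 0, 0, 0, 0, 0, 0, 0, 0, 0, 0, 0, 0, 0]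

/-- An information set. -/
def info1 : List ℕ := [3, 5, 6, 7, 10, 11, 13, 17, 19, 20, 22, 24, 26, 28, 32, 36, 46, 52, 55]

/-- The code words belonging to the information set. -/
def gen1 : List ℕ := [0, 0, 0, 31002554802651161, 0, 21979676205498417, 11130531263615301, 27757887237723030, 0, 0, 9442236628784390, 204098993691143, 0, 16492674478080, 0, 0, 0, 9483059756241671, 0, 31157174162755860, 1047894714257424, 0, 3581169514090512, 0, 10295440360652805, 0, 1165106725830674, 0, 31002552386732054, 0, 0, 0, 3097217588380178, 0, 0, 0, 9344725838479361, 0, 0, 0, 0, 0, 0, 0, 0, 0, 22502063842099731, 0, 0, 0, 0, 0, 35196470611165185, 0, 0, 48900841555640342]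

/-- An information set. -/
def info2 : List ℕ := [1, 2, 9, 12, 16, 18, 21, 25, 27, 29, 31, 33, 39, 42, 44, 45, 47, 51, 53]

/-- The code words belonging to the information set. -/
def gen2 : List ℕ := [0, 1407564941102539, 54961395112002805, 0, 0, 0, 0, 0, 0, 55243107662483296, 0, 0, 41730195740302544, 0, 0, 0, 42292720140649768, 0, 59964603656610257, 0, 0, 362169177213208, 0, 0, 0, 19219692354963760, 0, 1206475045363984, 0, 643443631590640, 0, 55180094130013633, 0, 64424509680, 0, 0, 0, 0, 0, 55243451259863136, 0, 0, 41744489391516880, 0, 19228349839756737, 58593049027152057, 0, 60730941799195009, 0, 0, 0, 4021343885986072, 0, 49541232350783520, 0, 0]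

/-- The code words of weight eight. -/
def short : List ℕ := [4026531855, 64424509680, 1030792154880, 16492674478080, 263882791649280, 4222124666388480, 67553994662215680]

/-- Basis vectors excluding signs on those words. -/
def witness : List ℕ := [6, 2, 1, 0, 3, 4]

end CfsgLib.KnownC.RuLattice
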