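import Cfsg.Prelude.Def_Spor_Ru
import Cfsg.Agent.Lib.KnownC.RuLattice.Data

/-!
# The minimum of the Conway-Wales lattice
-/

set_option autoImplicit false
set_option maxRecDepth 100000
set_option maxHeartbeats 0

namespace CfsgLib.KnownC.RuLattice

open Cfsg.Spor

/-- A vector from its list of real coordinates. -/
def ofList (l : List ℤ) : RuVec := fun p =>
  ⟨l.getD (4 * p.1.val + p.2.val) 0, l.getD (28 + (4 * p.1.val + p.2.val)) 0⟩

/-- The index of a coordinate. -/
def idx (i : ℕ) : RuIdx := (Fin.ofNat 7 (i / 4), Fin.ofNat 4 (i % 4))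

/-- The real coordinates of a vector. -/
def co (x : RuVec) (i : ℕ) : ℤ := if i < 28 then (x (idx i)).re else (x (idx (i - 28))).im

theorem co_ofList (l : List ℤ) {i : ℕ} (hi : i < 56) : co (ofList l) i = l.getD i 0 := by
  unfold co ofList idx
  simp only [Fin.val_ofNat]
  split_ifs with h
  · congr 1; omega
  · congr 1; omega

theorem co_add (x y : RuVec) (i : ℕ) : co (x + y) i = co x i + co y i := by
  unfold co; split_ifs <;> simp

theorem co_neg (x : RuVec) (i : ℕ) : co (-x) i = -co x i := by
  unfold co; split_ifs <;> simp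

theorem co_zero (i : ℕ) : co 0 i = 0 := by unfold co; split_ifs <;> simp

theorem norm_eq (x : RuVec) : ruNorm x = ∑ i ∈ Finset.range 56, co x i ^ 2 := by
  simp only [ruNorm, Fintype.sum_prod_type, Fin.sum_univ_seven, Fin.sum_univ_four, Finset.sum_range_succ,
    Finset.sum_range_zero, Zsqrtd.norm_def]
  norm_num [co, idx, Fin.ofNat]
  simp only [Fin.reduceFinMk]
  ring

/-- The lattice spanned by the basis. -/
def M : AddSubgroup RuVec := AddSubgroup.closure {x | ∃ h ∈ basis, x = ofList h}

/-- Sum of lists. -/
def addL : List ℤ → List ℤ → List ℤ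
  | [], b => b
  | a, [] => a
  | x :: a, y :: b => (x + y) :: addL a b

theorem getD_addL : ∀ (a b : List ℤ) (i : ℕ), (addL a b).getD i 0 = a.getD i 0 + b.getD i 0
  | [], b, i => by simp [addL]
  | x :: a, [], i => by simp [addL]
  | x :: a, y :: b, 0 => by simp [addL]
  | x :: a, y :: b, i + 1 => by simpa [addL] using getD_addL a b i

/-- A combination of the basis. -/
def linL : List (ℕ × ℤ) → List ℤ
  | [] => []
  | (k, c) :: r => addL ((basis.getD k []).map fun v => c * v) (linL r)

theorem mem_getD {α : Type} {l : List α} {d : α} {k : ℕ} (h : k < l.length) : l.getD k d ∈ l :=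
  (List.getD_eq_getElem l d h) ▸ List.getElem_mem h

theorem ofList_linL_mem : ∀ l : List (ℕ × ℤ), ofList (linL l) ∈ M
  | [] => by
    have : ofList (linL []) = 0 := by ext p <;> simp [linL, ofList]
    rw [this]; exact zero_mem _
  | (k, c) :: r => by
    have hb : ofList (basis.getD k []) ∈ M := by
      by_cases hk : k < basis.length
      · exact AddSubgroup.subset_closure ⟨_, mem_getD hk, rfl⟩
      · have : ofList (basis.getD k []) = 0 := by
          rw [List.getD_eq_default _ _ (not_lt.1 hk)]; ext p <;> simp [ofList]
        rw [this]; exact zero_mem _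
    have e : ofList (linL ((k, c) :: r)) = c • ofList (basis.getD k []) + ofList (linL r) := by
      have hm : ∀ i, ((basis.getD k []).map fun v => c * v).getD i 0 = c * (basis.getD k []).getD i 0 := by
        intro i
        have := List.getD_map (l := basis.getD k []) (d := (0 : ℤ)) (f := fun v => c * v) (n := i)
        simpa using this
      ext p <;> simp [-List.getD_eq_getElem?_getD, ofList, linL, getD_addL, hm, Pi.smul_apply]
    rw [e]
    exact add_mem (zsmul_mem hb c) (ofList_linL_mem r)

/-- Equality of the coordinates with a list. -/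
def eqList (x : RuVec) (l : List ℤ) : Bool :=
  (List.finRange 7).all fun n => (List.finRange 4).all fun t =>
    (x (n, t)).re == l.getD (4 * n.val + t.val) 0 && (x (n, t)).im == l.getD (28 + (4 * n.val + t.val)) 0

theorem eq_of_eqList {x : RuVec} {l : List ℤ} (h : eqList x l = true) : x = ofList l := by
  simp only [eqList, List.all_eq_true, List.mem_finRange, forall_true_left, Bool.and_eq_true, beq_iff_eq] at h
  funext p
  obtain ⟨n, t⟩ := p
  exact Zsqrtd.ext (h n t).1 (h n t).2

/-- A map sends the basis into the lattice. -/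
def mapOK (f : RuVec → RuVec) (img : List (List ℤ)) (cmb : List (List (ℕ × ℤ))) : Bool :=
  (List.range basis.length).all fun k =>
    eqList (f (ofList (basis.getD k []))) (img.getD k []) && linL (cmb.getD k []) == img.getD k []

theorem map_mem {f : RuVec → RuVec} (hadd : ∀ x y, f (x + y) = f x + f y) {img : List (List ℤ)}
    {cmb : List (List (ℕ × ℤ))} (h : mapOK f img cmb = true) {x : RuVec} (hx : x ∈ M) : f x ∈ M := by
  let φ : RuVec →+ RuVec := AddMonoidHom.mk' f hadd
  suffices M ≤ M.comap φ from this hx
  refine (AddSubgroup.closure_le _).2 ?_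
  rintro _ ⟨l, hl, rfl⟩
  obtain ⟨k, hk, rfl⟩ := List.getElem_of_mem hl
  simp only [mapOK, List.all_eq_true, List.mem_range, Bool.and_eq_true, beq_iff_eq] at h
  obtain ⟨h1, h2⟩ := h k hk
  rw [List.getD_eq_getElem _ _ hk] at h1
  show f _ ∈ M
  rw [eq_of_eqList h1, ← h2]
  exact ofList_linL_mem _

theorem okI : mapOK (fun v => gI • v) imggI combgI = true := by decide +kernel

theorem okJ : mapOK ruRj imgRj combRj = true := by decide +kernel

theorem okK : mapOK ruRk imgRk combRk = true := by decide +kernel

theorem okS : mapOK ruSign imgSign combSign = true := by decide +kernel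

theorem okT : mapOK ruShift imgShift combShift = true := by decide +kernel

theorem table_ok : ((List.range ruTable.length).all fun k =>
    eqList (ruTable.getD k 0) (linL (tableComb.getD k []))) = true := by decide +kernel

theorem ruRj_add (x y : RuVec) : ruRj (x + y) = ruRj x + ruRj y := by
  funext ⟨n, t⟩
  fin_cases t <;> simp [ruRj, mul_add] <;> ring

theorem ruRk_add (x y : RuVec) : ruRk (x + y) = ruRk x + ruRk y := by
  funext ⟨n, t⟩
  fin_cases t <;> simp [ruRk, mul_add] <;> ring

theorem ruSign_add (x y : RuVec) : ruSign (x + y) = ruSign x + ruSign y := by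
  funext p
  simp only [ruSign, Pi.add_apply]
  split_ifs <;> ring

theorem mem_M {x : RuVec} (hx : x ∈ ruLattice) : x ∈ M := by
  rw [ruLattice, AddSubgroup.mem_sInf] at hx
  refine hx M ⟨fun v hv => ?_, fun v hv => ⟨map_mem (fun a b => smul_add gI a b) okI hv,
    map_mem ruRj_add okJ hv, map_mem ruRk_add okK hv, map_mem ruSign_add okS hv,
    map_mem (fun _ _ => rfl) okT hv⟩⟩
  obtain ⟨k, hk, rfl⟩ := List.getElem_of_mem hv
  have h := List.all_eq_true.1 table_ok k (List.mem_range.2 hk)
  rw [List.getD_eq_getElem _ _ hk] at h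
  rw [eq_of_eqList h]
  exact ofList_linL_mem _

/-- The inner product. -/
def B (x y : RuVec) : ℤ := ∑ i ∈ Finset.range 56, co x i * co y i

theorem B_add (x x' y : RuVec) : B (x + x') y = B x y + B x' y := by
  simp [B, co_add, add_mul, Finset.sum_add_distrib]

theorem B_comm (x y : RuVec) : B x y = B y x := Finset.sum_congr rfl fun _ _ => mul_comm _ _

/-- The inner product of lists. -/
def dotL : List ℤ → List ℤ → ℤ
  | x :: a, y :: b => x * y + dotL a b
  | _, _ => 0

theorem dotL_eq : ∀ (n : ℕ) (a b : List ℤ), a.length = n →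
    ∑ i ∈ Finset.range n, a.getD i 0 * b.getD i 0 = dotL a b
  | 0, [], b, _ => by simp [dotL]
  | n + 1, x :: a, [], _ => by simp [dotL]
  | n + 1, x :: a, y :: b, h => by
    rw [Finset.sum_range_succ']
    simp only [List.getD_cons_succ, List.getD_cons_zero, dotL]
    rw [dotL_eq n a b (by simpa using h)]
    ring

theorem basis_length : ∀ h ∈ basis, h.length = 56 := by decide +kernel

theorem B_ofList {a : List ℤ} (ha : a.length = 56) (b : List ℤ) : B (ofList a) (ofList b) = dotL a b := by
  rw [← dotL_eq 56 a b ha]
  exact Finset.sum_congr rfl fun i hi => by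
    rw [co_ofList _ (Finset.mem_range.1 hi), co_ofList _ (Finset.mem_range.1 hi)]

theorem gram : (basis.all fun a => basis.all fun b => dotL a b % 4 == 0) = true := by decide +kernel

theorem gram_diag : (basis.all fun a => dotL a a % 8 == 0) = true := by decide +kernel

theorem four_dvd {x : RuVec} (hx : x ∈ M) {h : List ℤ} (hh : h ∈ basis) : 4 ∣ B x (ofList h) := by
  induction hx using AddSubgroup.closure_induction with
  | mem y hy =>
    obtain ⟨a, ha, rfl⟩ := hy
    rw [B_ofList (basis_length a ha)]
    have := List.all_eq_true.1 (List.all_eq_true.1 gram a ha) h hh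
    exact Int.dvd_of_emod_eq_zero (beq_iff_eq.1 this)
  | zero => simp [B, co_zero]
  | add a b _ _ iha ihb => rw [B_add]; exact dvd_add iha ihb
  | neg a _ ih => simpa [B, co_neg] using ih

theorem four_dvd_B {x y : RuVec} (hx : x ∈ M) (hy : y ∈ M) : 4 ∣ B x y := by
  induction hy using AddSubgroup.closure_induction with
  | mem z hz => obtain ⟨a, ha, rfl⟩ := hz; exact four_dvd hx ha
  | zero => simp [B, co_zero]
  | add a b _ _ iha ihb => rw [B_comm, B_add, B_comm a, B_comm b]; exact dvd_add iha ihb
  | neg a _ ih => simpa [B, co_neg] using ih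

theorem eight_dvd {x : RuVec} (hx : x ∈ M) : 8 ∣ B x x := by
  induction hx using AddSubgroup.closure_induction with
  | mem y hy =>
    obtain ⟨a, ha, rfl⟩ := hy
    rw [B_ofList (basis_length a ha)]
    exact Int.dvd_of_emod_eq_zero (beq_iff_eq.1 (List.all_eq_true.1 gram_diag a ha))
  | zero => simp [B, co_zero]
  | add a b ha hb iha ihb =>
    rw [B_add, B_comm a, B_comm b, B_add, B_add, B_comm b a]
    have h4 := four_dvd_B ha hb
    omega
  | neg a _ ih => simpa [B, co_neg] using ih

/-- A code word from some of the letters of an information set. -/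
def word (G : List ℕ) (l : List ℕ) : ℕ := l.foldr (fun i w => G.getD i 0 ^^^ w) 0

theorem word_bit (G : List ℕ) (P : ℕ → Bool) (z : ℕ → ZMod 2) (hz : ∀ i, z i = if P i then 1 else 0)
    (j : ℕ) : ∀ S : List ℕ, (if (word G (S.filter P)).testBit j then (1 : ZMod 2) else 0) =
      (S.map fun i => if (G.getD i 0).testBit j then z i else 0).sum
  | [] => by simp [word]
  | a :: S => by
    have ih := word_bit G P z hz j S
    rw [List.map_cons, List.sum_cons, ← ih, hz a]
    cases hP : P a
    · simp [hP]
    · rw [List.filter_cons_of_pos (by simpa using hP),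
        show word G (a :: S.filter P) = G.getD a 0 ^^^ word G (S.filter P) from rfl]
      cases h1 : (G.getD a 0).testBit j <;> cases h2 : (word G (S.filter P)).testBit j <;>
        simp [-List.getD_eq_getElem?_getD, Nat.testBit_xor, h1, h2] <;> decide

/-- The parity of the basis and its expression by an information set. -/
def infoOK (S G : List ℕ) : Bool :=
  (List.range basis.length).all fun k =>
    word G (S.filter fun i => (parity.getD k 0).testBit i) == parity.getD k 0

theorem parity_ok : ((List.range basis.length).all fun k => (List.range 56).all fun i =>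
    (parity.getD k 0).testBit i == decide ((basis.getD k []).getD i 0 % 2 = 1)) = true := by decide +kernel

theorem info1_ok : infoOK info1 gen1 = true := by decide +kernel

theorem info2_ok : infoOK info2 gen2 = true := by decide +kernel

theorem cast_two (n : ℤ) : (n : ZMod 2) = if decide (n % 2 = 1) then 1 else 0 := by
  rw [← ZMod.intCast_mod n 2]
  rcases Int.emod_two_eq_zero_or_one n with h | h <;> simp [h]

theorem parity_eq {S G : List ℕ} (h : infoOK S G = true) (hS : ∀ i ∈ S, i < 56) {x : RuVec} (hx : x ∈ M)
    {j : ℕ} (hj : j < 56) :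
    (co x j : ZMod 2) = (S.map fun i => if (G.getD i 0).testBit j then (co x i : ZMod 2) else 0).sum := by
  induction hx using AddSubgroup.closure_induction with
  | mem y hy =>
    obtain ⟨l, hl, rfl⟩ := hy
    obtain ⟨k, hk, rfl⟩ := List.getElem_of_mem hl
    have hb : ∀ i < 56, (co (ofList basis[k]) i : ZMod 2) = if (parity.getD k 0).testBit i then 1 else 0 := by
      intro i hi
      have := List.all_eq_true.1 (List.all_eq_true.1 parity_ok k (List.mem_range.2 hk)) i (List.mem_range.2 hi)
      rw [beq_iff_eq, List.getD_eq_getElem basis _ hk] at this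
      rw [this, co_ofList _ hi, cast_two]
    rw [hb j hj]
    have hw := beq_iff_eq.1 (List.all_eq_true.1 h k (List.mem_range.2 hk))
    conv_lhs => rw [← hw]
    rw [word_bit G _ (fun i => if (parity.getD k 0).testBit i then 1 else 0) (fun _ => rfl) j S]
    exact congrArg List.sum (List.map_congr_left fun i hi => by rw [hb i (hS i hi)])
  | zero => simp [co_zero]
  | add a b _ _ iha ihb =>
    rw [co_add, Int.cast_add, iha, ihb, ← List.sum_map_add]
    exact congrArg List.sum (List.map_congr_left fun i _ => by rw [co_add, Int.cast_add]; split_ifs <;> simp)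
  | neg a _ ih =>
    have hneg : ∀ z : ZMod 2, -z = z := ZMod.neg_eq_self_mod_two
    simp only [co_neg, Int.cast_neg, hneg]
    exact ih

/-- Being odd. -/
def odd (x : RuVec) (i : ℕ) : Bool := decide (co x i % 2 = 1)

theorem bit_word {S G : List ℕ} (h : infoOK S G = true) (hS : ∀ i ∈ S, i < 56) {x : RuVec} (hx : x ∈ M)
    {j : ℕ} (hj : j < 56) : (word G (S.filter (odd x))).testBit j = odd x j := by
  have h1 := word_bit G (odd x) (fun i => (co x i : ZMod 2)) (fun i => cast_two _) j S
  rw [← parity_eq h hS hx hj, cast_two] at h1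
  rw [odd]
  revert h1
  cases (word G (S.filter (odd x))).testBit j <;> cases decide (co x j % 2 = 1) <;> simp

/-- The check of the combinations of at most four letters. -/
def fourOK (S G : List ℕ) : Bool :=
  (List.range 5).all fun k => (S.sublistsLen k).all fun s =>
    let w := word G s
    w == 0 || short.contains w || Nat.blt 8 ((List.range 56).filter fun i => w.testBit i).length

theorem four1 : fourOK info1 gen1 = true := by decide +kernel

theorem four2 : fourOK info2 gen2 = true := by decide +kernel

theorem sets : (∀ i ∈ info1 ++ info2, i < 56) ∧ (info1 ++ info2).Nodup := by decide +kernel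

/-- The check of the sign patterns on the words of weight eight. -/
def signOK : Bool :=
  short.all fun w =>
    let supp := (List.range 56).filter fun i => w.testBit i
    supp.sublists.all fun ng =>
      let v := (List.range 56).map fun i => if w.testBit i then (if ng.contains i then (-1 : ℤ) else 1) else 0
      witness.any fun k => dotL (basis.getD k []) v % 4 != 0

theorem sign_ok : signOK = true := by decide +kernel

theorem short_ok : short.all (fun w => ((List.range 56).filter fun i => w.testBit i).length == 8) = true := by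
  decide +kernel

theorem witness_lt : ∀ k ∈ witness, k < basis.length := by decide +kernel

theorem pairs : ((List.range 56).all fun a => (List.range a).all fun b =>
    parity.any fun p => p.testBit a != p.testBit b) = true := by decide +kernel

theorem parity_length : parity.length = basis.length := by decide +kernel

theorem norm_ne_eight {x : RuVec} (hx : x ∈ M) : B x x ≠ 8 := by
  classical
  intro h8
  set f := co x with hf
  have hsum : ∑ i ∈ Finset.range 56, f i * f i = 8 := h8
  set O := (List.range 56).filter (odd x) with hO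
  have hle : ∀ s : Finset ℕ, s ⊆ Finset.range 56 → (∀ i ∈ s, f i % 2 = 1) → (s.card : ℤ) ≤ ∑ i ∈ s, f i * f i := by
    intro s _ hs
    have := Finset.sum_le_sum (s := s) (f := fun _ => (1 : ℤ)) (g := fun i => f i * f i) fun i hi => by
      have : f i ≠ 0 := fun e => by have := hs i hi; omega
      exact Int.one_le_abs (mul_self_ne_zero.2 this) |>.trans (le_of_eq (abs_of_nonneg (mul_self_nonneg _)))
    simpa using this
  have hpart : ∀ s : Finset ℕ, s ⊆ Finset.range 56 → ∑ i ∈ s, f i * f i ≤ 8 := fun s hs =>
    hsum ▸ Finset.sum_le_sum_of_subset_of_nonneg hs fun i _ _ => mul_self_nonneg _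
  -- one of the two sets has at most four odd coordinates
  obtain ⟨hlt, hnd⟩ := sets
  have hsub : ((info1 ++ info2).filter (odd x)).toFinset ⊆ Finset.range 56 := fun i hi =>
    Finset.mem_range.2 (hlt i (List.mem_filter.1 (List.mem_toFinset.1 hi)).1)
  have h16 := (hle _ hsub fun i hi => by
    simpa [odd, ← hf] using (List.mem_filter.1 (List.mem_toFinset.1 hi)).2).trans (hpart _ hsub)
  rw [List.toFinset_card_of_nodup (hnd.filter _), List.filter_append, List.length_append] at h16
  obtain ⟨S, G, hok, hfour, hS, hlen⟩ : ∃ S G, infoOK S G = true ∧ fourOK S G = true ∧ (∀ i ∈ S, i < 56) ∧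
      (S.filter (odd x)).length ≤ 4 := by
    rcases Nat.lt_or_ge (info1.filter (odd x)).length 5 with h | h
    · exact ⟨_, _, info1_ok, four1, fun i hi => hlt i (List.mem_append_left _ hi), by omega⟩
    · exact ⟨_, _, info2_ok, four2, fun i hi => hlt i (List.mem_append_right _ hi), by omega⟩
  set w := word G (S.filter (odd x)) with hw
  have hbit : ∀ j < 56, w.testBit j = decide (f j % 2 = 1) := fun j hj => bit_word hok hS hx hj
  have hwO : ((List.range 56).filter fun i => w.testBit i).toFinset =
      (Finset.range 56).filter fun i => f i % 2 = 1 := by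
    ext i
    simp only [List.mem_toFinset, List.mem_filter, List.mem_range, Finset.mem_filter, Finset.mem_range]
    exact and_congr_right fun hi => by rw [hbit i hi, decide_eq_true_eq]
  have hcard : (((List.range 56).filter fun i => w.testBit i).length : ℤ) ≤ 8 := by
    rw [← List.toFinset_card_of_nodup (List.nodup_range.filter _), hwO]
    exact (hle _ (Finset.filter_subset _ _) fun i hi => (Finset.mem_filter.1 hi).2).trans
      (hpart _ (Finset.filter_subset _ _))
  have hcheck := List.all_eq_true.1 (List.all_eq_true.1 hfour _ (List.mem_range.2 (Nat.lt_succ_of_le hlen)))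
    (S.filter (odd x)) (List.mem_sublistsLen.2 ⟨List.filter_sublist, rfl⟩)
  simp only [Bool.or_eq_true, beq_iff_eq, List.contains_iff_mem, Nat.blt_eq, ← hw] at hcheck
  rcases hcheck with (h0 | hmem) | hbig
  · -- all coordinates even
    have heven : ∀ i < 56, f i % 2 = 0 := by
      intro i hi
      have h' := hbit i hi
      rw [h0, Nat.zero_testBit] at h'
      have : ¬ f i % 2 = 1 := by simpa using h'.symm
      omega
    obtain ⟨y, hy⟩ : ∃ y : ℕ → ℤ, ∀ i < 56, f i = 2 * y i := ⟨fun i => f i / 2, fun i hi => by
      have := heven i hi; show f i = 2 * (f i / 2); omega⟩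
    have hy2 : ∑ i ∈ Finset.range 56, y i * y i = 2 := by
      have : ∑ i ∈ Finset.range 56, f i * f i = 4 * ∑ i ∈ Finset.range 56, y i * y i := by
        rw [Finset.mul_sum]
        exact Finset.sum_congr rfl fun i hi => by rw [hy i (Finset.mem_range.1 hi)]; ring
      omega
    set T := (Finset.range 56).filter fun i => y i % 2 = 1 with hT
    have hsplit := Finset.sum_filter_add_sum_filter_not (Finset.range 56) (fun i => y i % 2 = 1)
      (fun i => y i * y i)
    rw [← hT, hy2] at hsplit
    have hTge : (T.card : ℤ) ≤ ∑ i ∈ T, y i * y i := by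
      have := Finset.sum_le_sum (s := T) (f := fun _ => (1 : ℤ)) (g := fun i => y i * y i) fun i hi => by
        have : y i ≠ 0 := fun e => by have := (Finset.mem_filter.1 hi).2; omega
        exact Int.one_le_abs (mul_self_ne_zero.2 this) |>.trans (le_of_eq (abs_of_nonneg (mul_self_nonneg _)))
      simpa using this
    have hrest0 : 0 ≤ ∑ i ∈ (Finset.range 56).filter (fun i => ¬ y i % 2 = 1), y i * y i :=
      Finset.sum_nonneg fun i _ => mul_self_nonneg _
    have hrest4 : 4 ∣ ∑ i ∈ (Finset.range 56).filter (fun i => ¬ y i % 2 = 1), y i * y i := by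
      refine Finset.dvd_sum fun i hi => ?_
      obtain ⟨c, hc⟩ : (2 : ℤ) ∣ y i := Int.dvd_of_emod_eq_zero (by have := (Finset.mem_filter.1 hi).2; omega)
      exact ⟨c * c, by rw [hc]; ring⟩
    have hTpar : 2 ∣ (∑ i ∈ T, y i * y i) - (T.card : ℤ) := by
      have e : (∑ i ∈ T, y i * y i) - (T.card : ℤ) = ∑ i ∈ T, (y i * y i - 1) := by
        rw [Finset.sum_sub_distrib]; simp
      rw [e]
      refine Finset.dvd_sum fun i hi => ?_
      obtain ⟨c, hc⟩ : (2 : ℤ) ∣ y i - 1 := Int.dvd_of_emod_eq_zero (by have := (Finset.mem_filter.1 hi).2; omega)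
      exact ⟨c * (y i + 1), by linear_combination (y i + 1) * hc⟩
    have hTc : T.card = 2 := by
      have h0' : T.card = 0 → ∑ i ∈ T, y i * y i = 0 := fun e => by rw [Finset.card_eq_zero.1 e]; simp
      omega
    have hzero : ∀ i ∈ (Finset.range 56).filter (fun i => ¬ y i % 2 = 1), y i = 0 := by
      intro i hi
      have := (Finset.sum_eq_zero_iff_of_nonneg fun j _ => mul_self_nonneg (y j)).1
        (show ∑ i ∈ (Finset.range 56).filter (fun i => ¬ y i % 2 = 1), y i * y i = 0 by omega) i hi
      exact mul_self_eq_zero.1 this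
    obtain ⟨a, b, hab, hTab⟩ := Finset.card_eq_two.1 hTc
    have hmemT : ∀ i, i ∈ T ↔ i = a ∨ i = b := fun i => by rw [hTab]; simp
    have ha := Finset.mem_filter.1 ((hmemT a).2 (Or.inl rfl))
    have hb := Finset.mem_filter.1 ((hmemT b).2 (Or.inr rfl))
    obtain ⟨p, hp, hpab⟩ : ∃ p ∈ parity, p.testBit a ≠ p.testBit b := by
      have ha' := Finset.mem_range.1 ha.1
      have hb' := Finset.mem_range.1 hb.1
      rcases Nat.lt_or_ge b a with h | h
      · have := List.all_eq_true.1 (List.all_eq_true.1 pairs a (List.mem_range.2 ha')) b (List.mem_range.2 h)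
        simpa using this
      · have := List.all_eq_true.1 (List.all_eq_true.1 pairs b (List.mem_range.2 hb')) a
          (List.mem_range.2 (lt_of_le_of_ne h hab))
        obtain ⟨p, hp, h⟩ := List.any_eq_true.1 this
        exact ⟨p, hp, fun e => by simp [e] at h⟩
    obtain ⟨k, hk, rfl⟩ := List.getElem_of_mem hp
    have hk' : k < basis.length := parity_length ▸ hk
    have hB := four_dvd hx (List.getElem_mem hk')
    have hbits : ∀ i < 56, parity[k].testBit i = decide (basis[k].getD i 0 % 2 = 1) := by
      intro i hi
      have := List.all_eq_true.1 (List.all_eq_true.1 parity_ok k (List.mem_range.2 hk')) i (List.mem_range.2 hi)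
      rwa [beq_iff_eq, List.getD_eq_getElem basis _ hk', List.getD_eq_getElem parity _ hk] at this
    have hval : B x (ofList basis[k]) = 2 * (y a * basis[k].getD a 0 + y b * basis[k].getD b 0) := by
      rw [B, ← Finset.sum_subset (show ({a, b} : Finset ℕ) ⊆ Finset.range 56 by
        intro i hi; rcases Finset.mem_insert.1 hi with rfl | hi
        · exact ha.1
        · rw [Finset.mem_singleton.1 hi]; exact hb.1) fun i hi hni => ?_, Finset.sum_pair hab]
      · rw [co_ofList _ (Finset.mem_range.1 ha.1), co_ofList _ (Finset.mem_range.1 hb.1), ← hf,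
          hy a (Finset.mem_range.1 ha.1), hy b (Finset.mem_range.1 hb.1)]
        ring
      · rw [← hf, hy i (Finset.mem_range.1 hi), hzero i (Finset.mem_filter.2 ⟨hi, fun e =>
          hni (by simpa using (hmemT i).1 (Finset.mem_filter.2 ⟨hi, e⟩))⟩)]
        simp
    have hpab' : decide (basis[k].getD a 0 % 2 = 1) ≠ decide (basis[k].getD b 0 % 2 = 1) := fun e =>
      hpab ((hbits a (Finset.mem_range.1 ha.1)).trans (e.trans (hbits b (Finset.mem_range.1 hb.1)).symm))
    clear hpab
    rename' hpab' => hpab
    rw [hval] at hB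
    simp only [ne_eq, decide_eq_decide] at hpab
    have e1 : (2 : ℤ) ∣ y a * basis[k].getD a 0 + y b * basis[k].getD b 0 := by omega
    obtain ⟨ca, hca⟩ : (2 : ℤ) ∣ y a - 1 := Int.dvd_of_emod_eq_zero (by omega)
    obtain ⟨cb, hcb⟩ : (2 : ℤ) ∣ y b - 1 := Int.dvd_of_emod_eq_zero (by omega)
    have hu : (2 : ℤ) ∣ basis[k].getD a 0 + basis[k].getD b 0 := by
      obtain ⟨c, hc⟩ := e1
      exact ⟨c - ca * basis[k].getD a 0 - cb * basis[k].getD b 0,
        by linear_combination hc - basis[k].getD a 0 * hca - basis[k].getD b 0 * hcb⟩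
    exact hpab (by omega)
  · -- eight odd coordinates
    have hlen8 := beq_iff_eq.1 (List.all_eq_true.1 short_ok w hmem)
    set supp := (List.range 56).filter fun i => w.testBit i with hsupp
    set s := (Finset.range 56).filter fun i => f i % 2 = 1 with hs
    have hs8 : s.card = 8 := by
      rw [← hwO, List.toFinset_card_of_nodup (List.nodup_range.filter _)]; exact hlen8
    have hsplit := Finset.sum_filter_add_sum_filter_not (Finset.range 56) (fun i => f i % 2 = 1)
      (fun i => f i * f i)
    rw [← hs, hsum] at hsplit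
    have hge := hle s (Finset.filter_subset _ _) fun i hi => (Finset.mem_filter.1 hi).2
    have hrest0 : 0 ≤ ∑ i ∈ (Finset.range 56).filter (fun i => ¬ f i % 2 = 1), f i * f i :=
      Finset.sum_nonneg fun i _ => mul_self_nonneg _
    have hzero : ∀ i < 56, ¬ f i % 2 = 1 → f i = 0 := fun i hi hn => mul_self_eq_zero.1
      ((Finset.sum_eq_zero_iff_of_nonneg fun j _ => mul_self_nonneg (f j)).1
        (show ∑ i ∈ (Finset.range 56).filter (fun i => ¬ f i % 2 = 1), f i * f i = 0 by omega) i
        (Finset.mem_filter.2 ⟨Finset.mem_range.2 hi, hn⟩))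
    have hone : ∀ i < 56, f i % 2 = 1 → f i = 1 ∨ f i = -1 := by
      intro i hi ho
      have hmem' : i ∈ s := Finset.mem_filter.2 ⟨Finset.mem_range.2 hi, ho⟩
      have h1 : f i * f i ≤ 1 := by
        have h2 := Finset.add_sum_erase s (fun j => f j * f j) hmem'
        have h3 := hle (s.erase i) ((Finset.erase_subset _ _).trans (Finset.filter_subset _ _)) fun j hj =>
          (Finset.mem_filter.1 (Finset.mem_of_mem_erase hj)).2
        rw [Finset.card_erase_of_mem hmem', hs8] at h3
        push_cast at h3
        omega
      have : f i ≤ 1 ∧ -1 ≤ f i := ⟨by nlinarith, by nlinarith⟩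
      omega
    set ng := supp.filter fun i => decide (f i = -1)
    have hh := List.all_eq_true.1 (List.all_eq_true.1 sign_ok w hmem) ng
      (List.mem_sublists.2 List.filter_sublist)
    obtain ⟨k, hk, hne⟩ := List.any_eq_true.1 hh
    have hk' := witness_lt k hk
    have hB := four_dvd hx (List.getElem_mem hk')
    rw [← List.getD_eq_getElem basis [] hk'] at hB
    rw [B_comm] at hB
    have hbl : (basis.getD k []).length = 56 := by
      rw [List.getD_eq_getElem basis [] hk']; exact basis_length _ (List.getElem_mem hk')
    set v := (List.range 56).map fun i => if w.testBit i then (if ng.contains i then (-1 : ℤ) else 1) else 0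
    have hv : ∀ i < 56, f i = v.getD i 0 := by
      intro i hi
      rw [List.getD_eq_getElem _ _ (by simp [v, hi]), List.getElem_map, List.getElem_range, hbit i hi]
      by_cases ho : f i % 2 = 1
      · have hin : i ∈ supp := List.mem_filter.2 ⟨List.mem_range.2 hi, by rw [hbit i hi]; simpa⟩
        rcases hone i hi ho with h | h <;> simp [ng, hin, h]
      · simp [ho, hzero i hi ho]
    have e : B (ofList (basis.getD k [])) x = dotL (basis.getD k []) v := by
      rw [← dotL_eq 56 _ v hbl]
      exact Finset.sum_congr rfl fun i hi => by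
        rw [co_ofList _ (Finset.mem_range.1 hi), ← hv i (Finset.mem_range.1 hi)]
    rw [e] at hB
    simp [-List.getD_eq_getElem?_getD] at hne
    exact hne hB
  · omega

theorem eight_dvd_norm {x : RuVec} (hx : x ∈ ruLattice) : 8 ∣ ruNorm x := by
  have := eight_dvd (mem_M hx)
  rw [norm_eq]
  simpa [B, pow_two] using this

theorem norm_ne {x : RuVec} (hx : x ∈ ruLattice) : ruNorm x ≠ 8 := by
  have := norm_ne_eight (mem_M hx)
  rw [norm_eq]
  simpa [B, pow_two] using this

theorem sixteen_le {x : RuVec} (hx : x ∈ ruLattice) (h0 : x ≠ 0) : 16 ≤ ruNorm x := by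
  have h1 := eight_dvd_norm hx
  have h2 := norm_ne hx
  have h3 : 0 ≤ ruNorm x := Finset.sum_nonneg fun p _ => GaussianInt.norm_nonneg _
  have h4 : ruNorm x ≠ 0 := fun e => h0 (funext fun p => Zsqrtd.norm_eq_zero_iff (by norm_num) _ |>.1
    ((Finset.sum_eq_zero_iff_of_nonneg fun q _ => GaussianInt.norm_nonneg (x q)).1 e p (Finset.mem_univ p)))
  omega

theorem exists_sixteen : ∃ x ∈ ruLattice, ruNorm x = 16 := by
  refine ⟨ruTable.getD 0 0, ?_, by decide +kernel⟩
  rw [ruLattice, AddSubgroup.mem_sInf]
  intro L hL
  exact hL.1 _ (mem_getD (by decide +kernel))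

end CfsgLib.KnownC.RuLattice
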